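import Groth.Agent.Catenary.Jacobson
import Groth.Prelude.Def_Flat

/-!
# Local dimensions of closed subsets of catenary Jacobson schemes
-/

set_option autoImplicit false
set_option linter.style.haveILetI false
universe u

open CategoryTheory AlgebraicGeometry Topology TopologicalSpace
open Groth.Agent Groth.Agent.Unibranch Groth.Agent.EquidimPt Groth.Agent.DimFormula

namespace Groth.Agent.Catenary

variable {S : Scheme.{u}} [IsLocallyNoetherian S] [JacobsonSpace S]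

/-- A maximal point of a subset. -/
def IsMaxIn (Y : Set S) (ζ : S) : Prop := ζ ∈ Y ∧ ∀ w ∈ Y, w ⤳ ζ → w = ζ

omit [IsLocallyNoetherian S] [JacobsonSpace S] in
theorem exists_maxIn_and_opens [IsLocallyNoetherian S] {Y : Set S} (hY : IsClosed Y) {x : S} (hx : x ∈ Y) :
    (∀ y ∈ Y, ∃ ζ, IsMaxIn Y ζ ∧ ζ ⤳ y) ∧
      ∃ U : Set S, IsOpen U ∧ x ∈ U ∧ ∀ ζ, IsMaxIn Y ζ → ζ ∈ U → ζ ⤳ x := by
  let ι := (Scheme.IdealSheafData.vanishingIdeal ⟨Y, hY⟩).subschemeι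
  have hr : Set.range ι = Y := by
    rw [Scheme.IdealSheafData.range_subschemeι, Scheme.IdealSheafData.coe_support_vanishingIdeal]
    try rfl
  haveI : IsLocallyNoetherian (Scheme.IdealSheafData.vanishingIdeal ⟨Y, hY⟩).subscheme :=
    LocallyOfFiniteType.isLocallyNoetherian ι
  have hsp : ∀ p q, ι p ⤳ ι q ↔ p ⤳ q := fun p q => ι.isEmbedding.isInducing.specializes_iff
  have hmax : ∀ a, IsMaxPt a → IsMaxIn Y (ι a) := fun a ha => ⟨hr.le ⟨a, rfl⟩, fun w hw hwa => by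
    obtain ⟨b, rfl⟩ := hr.ge hw
    rw [ha b ((hsp b a).mp hwa)]⟩
  refine ⟨fun y hy => ?_, ?_⟩
  · obtain ⟨b, rfl⟩ := hr.ge hy
    obtain ⟨a, ha, hab⟩ := exists_isMaxPt_specializes b
    exact ⟨ι a, hmax a ha, hab.map ι.continuous⟩
  · obtain ⟨w, rfl⟩ := hr.ge hx
    obtain ⟨O, hwO, hO⟩ := EquidimPt.exists_opens_maxPt_specializes w
    obtain ⟨U, hU, hUO⟩ := ι.isEmbedding.isInducing.isOpen_iff.mp O.2
    refine ⟨U, hU, (show w ∈ ι ⁻¹' U from hUO.ge hwO), fun ζ hζ hζU => ?_⟩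
    obtain ⟨a, rfl⟩ := hr.ge hζ.1
    exact (hO a (hUO.le hζU) fun b hb => ι.isEmbedding.injective
      (hζ.2 _ (hr.le ⟨b, rfl⟩) (hb.map ι.continuous))).map ι.continuous

variable (hS : ClosedDim S) (hcat : ∀ s : S, CAlg.IsCatenary (S.presheaf.stalk s))
  {Y : Set S} (hY : IsClosed Y) {x : S} (hx : x ∈ Y)

include hS hcat hY hx in
/-- The key numbers at `x`. -/
theorem exists_dims :
    ∃ (M Dx : ℕ) (ζ₀ : S), IsMaxIn Y ζ₀ ∧ ζ₀ ⤳ x ∧
      topologicalKrullDim ↥(closure ({ζ₀} : Set S)) = (M : WithBot ℕ∞) ∧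
      (∀ ζ, IsMaxIn Y ζ → ζ ⤳ x → topologicalKrullDim ↥(closure ({ζ} : Set S)) ≤ (M : WithBot ℕ∞)) ∧
      topologicalKrullDim ↥(closure ({x} : Set S)) = (Dx : WithBot ℕ∞) ∧
      topologicalKrullDim ↥{t : S | t ∈ Y ∧ t ⤳ x} = ((M - Dx : ℕ) : WithBot ℕ∞) ∧ Dx ≤ M := by
  classical
  obtain ⟨Dx, hDx⟩ := hS x
  obtain ⟨hmaxY, -⟩ := exists_maxIn_and_opens hY hx
  obtain ⟨K, hK⟩ := exists_genChainsLE x
  obtain ⟨s, hs, hxs⟩ := exists_closedPt x
  -- distances to `x`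
  have hadd : ∀ ζ, ζ ⤳ x → ∀ D, (∀ s : S, IsClosed ({s} : Set S) → ζ ⤳ s → GenLE ζ s D ∧ HasGen ζ s D) →
      ∀ c, GenLE ζ x c → HasGen ζ x c → D = c + Dx := by
    intro ζ hζx D hD c hcle hcge
    obtain ⟨hle, hge⟩ := hD s hs (hζx.trans hxs)
    obtain ⟨hxle, hxge⟩ := hDx s hs hxs
    obtain ⟨n, hn, hn'⟩ := hcge.trans hxge
    have := hle.le_of_hasGen hn'
    have := genLE_trans hζx hxs (hcat s) hcle hxle hge
    omega
  let P : ℕ → Prop := fun k => ∃ ζ, IsMaxIn Y ζ ∧ ζ ⤳ x ∧ HasGen ζ x k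
  have hP0 : P 0 := by
    obtain ⟨ζ, hζ, hζx⟩ := hmaxY x hx
    exact ⟨ζ, hζ, hζx, hasGen_zero hζx⟩
  obtain ⟨ζ₀, hζ₀, hζ₀x, hge₀⟩ := Nat.findGreatest_spec (P := P) (Nat.zero_le K) hP0
  set c₀ := Nat.findGreatest P K
  have hall : ∀ ζ, IsMaxIn Y ζ → ζ ⤳ x → ∀ k, HasGen ζ x k → k ≤ c₀ := fun ζ hζ hζx k hk =>
    Nat.le_findGreatest (by obtain ⟨g, hg, -, hgl⟩ := hk; exact hK k g hg hgl) ⟨ζ, hζ, hζx, hk⟩
  obtain ⟨D₀, hD₀⟩ := hS ζ₀
  have hD₀' := hadd ζ₀ hζ₀x D₀ hD₀ c₀ (fun n g h1 h2 h3 => hall ζ₀ hζ₀ hζ₀x n ⟨g, h1, h2, h3⟩) hge₀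
  refine ⟨c₀ + Dx, Dx, ζ₀, hζ₀, hζ₀x, by rw [dim_closure hD₀, hD₀'], fun ζ hζ hζx => ?_, dim_closure hDx, ?_, by omega⟩
  · obtain ⟨D, hD⟩ := hS ζ
    obtain ⟨c, hcle, hcge⟩ := exists_genLE_hasGen hζx
    rw [dim_closure hD, hadd ζ hζx D hD c hcle hcge]
    exact_mod_cast (show c + Dx ≤ c₀ + Dx by have := hall ζ hζ hζx c hcge; omega)
  · rw [Nat.add_sub_cancel]
    let Q : Set (Spec (S.presheaf.stalk x)) := S.fromSpecStalk x ⁻¹' Y
    have hQ : IsClosed Q := hY.preimage (S.fromSpecStalk x).continuous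
    haveI : QuasiSober ↥Q := hQ.isClosedEmbedding_subtypeVal.quasiSober
    have hr : Set.range (fun q : ↥Q => S.fromSpecStalk x q.1) = {t : S | t ∈ Y ∧ t ⤳ x} := by
      ext t
      constructor
      · rintro ⟨q, rfl⟩
        refine ⟨q.2, ?_⟩
        have : S.fromSpecStalk x q.1 ∈ Set.range (S.fromSpecStalk x) := ⟨_, rfl⟩
        rwa [Scheme.range_fromSpecStalk] at this
      · rintro ⟨ht, htx⟩
        obtain ⟨q, rfl⟩ := exists_fromSpecStalk_eq htx
        exact ⟨⟨q, ht⟩, rfl⟩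
    have hg : IsEmbedding (fun q : ↥Q => S.fromSpecStalk x q.1) :=
      (S.fromSpecStalk x).isEmbedding.comp IsEmbedding.subtypeVal
    rw [← IsHomeomorph.topologicalKrullDim_eq _ (hg.toHomeomorph.trans (Homeomorph.setCongr hr)).isHomeomorph]
    refine le_antisymm (le_of_forall_natCast_le fun k hk => ?_) ?_
    · obtain ⟨c, hc⟩ := exists_chain_of_le_topologicalKrullDim hk
      obtain ⟨ζ, hζ, hζc⟩ := hmaxY _ (c 0).2
      have hsp : ∀ i, S.fromSpecStalk x (c i).1 ⤳ x := fun i => (hr.le ⟨c i, rfl⟩).2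
      obtain ⟨n, hn, hn'⟩ := HasGen.trans (a := k) (b := 0) (ζ := ζ) (m := S.fromSpecStalk x (c (Fin.last k)).1) (x := x)
        ⟨fun i => S.fromSpecStalk x (c i).1, fun i => ⟨((subtype_specializes_iff _ _).mp (hc i).1).map (S.fromSpecStalk x).continuous,
          fun e => (hc i).2 (Subtype.ext ((S.fromSpecStalk x).isEmbedding.injective e))⟩, hζc, rfl⟩
        (hasGen_zero (hsp _))
      have := hall ζ hζ (hζc.trans (hsp 0)) n hn'
      exact_mod_cast (show k ≤ c₀ by omega)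
    · obtain ⟨g, hg', hg0, hgl⟩ := hge₀
      choose b hb using fun i => exists_fromSpecStalk_eq (show g i ⤳ x from hgl ▸ specializes_last hg' i)
      have hbQ : ∀ i, b i ∈ Q := fun i => by
        show S.fromSpecStalk x (b i) ∈ Y
        rw [hb]
        exact hY.stableUnderSpecialization (hg0.trans (Unibranch.specializes_of_chain g hg' i)) hζ₀.1
      exact natCast_le_topologicalKrullDim (fun i => (⟨b i, hbQ i⟩ : ↥Q)) fun i =>
        ⟨(subtype_specializes_iff _ _).mpr ((S.fromSpecStalk x).isEmbedding.isInducing.specializes_iff.mp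
          (by rw [hb, hb]; exact (hg' i).1)), fun e => (hg' i).2 ((hb _).symm.trans ((congrArg (fun q : ↥Q => S.fromSpecStalk x q.1) e).trans (hb _)))⟩

include hS hcat hY hx in
theorem localDim_eq :
    FlatMor.localDim ↥Y ⟨x, hx⟩ =
        topologicalKrullDim ↥(closure ({x} : Set S)) + topologicalKrullDim ↥{t : S | t ∈ Y ∧ t ⤳ x} ∧
      FlatMor.localDim ↥Y ⟨x, hx⟩ =
        ⨆ C ∈ {C : Set ↥Y | C ∈ irreducibleComponents ↥Y ∧ (⟨x, hx⟩ : ↥Y) ∈ C}, topologicalKrullDim ↥C ∧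
      ∀ U : Set S, IsOpen U → x ∈ U →
        (∀ C ∈ irreducibleComponents ↥Y, (⟨x, hx⟩ : ↥Y) ∉ C → Disjoint (Subtype.val ⁻¹' U) C) →
        topologicalKrullDim ↥(U ∩ Y) = FlatMor.localDim ↥Y ⟨x, hx⟩ := by
  obtain ⟨M, Dx, ζ₀, hζ₀, hζ₀x, hM₀, hM, hDx, hgens, hDM⟩ := exists_dims hS hcat hY hx
  obtain ⟨hmaxY, U₀, hU₀, hxU₀, hU₀'⟩ := exists_maxIn_and_opens hY hx
  haveI : QuasiSober ↥Y := hY.isClosedEmbedding_subtypeVal.quasiSober
  -- components
  have hcomp : ∀ ζ (h : IsMaxIn Y ζ), closure ({⟨ζ, h.1⟩} : Set ↥Y) ∈ irreducibleComponents ↥Y := fun ζ h => by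
    refine ⟨isIrreducible_singleton.closure, fun T hT hle => ?_⟩
    obtain ⟨g, hg⟩ := QuasiSober.sober hT.closure isClosed_closure
    have h1 : g ⤳ (⟨ζ, h.1⟩ : ↥Y) := hg.specializes (subset_closure (hle (subset_closure rfl)))
    obtain rfl : g = ⟨ζ, h.1⟩ := Subtype.ext (h.2 g.1 g.2 ((subtype_specializes_iff _ _).mp h1))
    exact subset_closure.trans (le_of_eq hg.def.symm)
  have hdimc : ∀ z : ↥Y, topologicalKrullDim ↥(closure ({z} : Set ↥Y)) = topologicalKrullDim ↥(closure ({z.1} : Set S)) := by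
    intro z
    have himg : Subtype.val '' closure ({z} : Set ↥Y) = closure ({z.1} : Set S) := by
      rw [← hY.isClosedEmbedding_subtypeVal.closure_image_eq, Set.image_singleton]
    rw [IsHomeomorph.topologicalKrullDim_eq _ ((IsEmbedding.subtypeVal.homeomorphImage _).trans
      (Homeomorph.setCongr himg)).isHomeomorph]
  have hC : ∀ C ∈ irreducibleComponents ↥Y, ∃ z : ↥Y, C = closure {z} ∧ IsMaxIn Y z.1 := fun C hC => by
    have hcl : IsClosed C := isClosed_of_mem_irreducibleComponents C hC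
    obtain ⟨z, hz⟩ := QuasiSober.sober hC.1 hcl
    refine ⟨z, hz.def.symm, z.2, fun w hw hwz => ?_⟩
    have h1 : C ⊆ closure ({⟨w, hw⟩} : Set ↥Y) := hz.def.symm.le.trans
      (closure_minimal (Set.singleton_subset_iff.mpr (specializes_iff_mem_closure.mp ((subtype_specializes_iff _ _).mpr hwz))) isClosed_closure)
    have h2 := hC.2 isIrreducible_singleton.closure h1
    have h3 : z ⤳ (⟨w, hw⟩ : ↥Y) := hz.specializes (h2 (subset_closure rfl))
    exact ((hwz).antisymm ((subtype_specializes_iff _ _).mp h3)).eq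
  have hup : ∀ U : Set S, IsOpen U → x ∈ U → (∀ ζ, IsMaxIn Y ζ → ζ ∈ U → ζ ⤳ x) →
      topologicalKrullDim ↥(U ∩ Y) = (M : WithBot ℕ∞) := by
    intro U hU hxU hUx
    haveI : QuasiSober ↥(U ∩ Y) := by
      haveI : QuasiSober ↥((Subtype.val : ↥Y → S) ⁻¹' U) := (hU.preimage continuous_subtype_val).isOpenEmbedding_subtypeVal.quasiSober
      exact (((IsEmbedding.subtypeVal.homeomorphImage ((Subtype.val : ↥Y → S) ⁻¹' U)).trans (Homeomorph.setCongr
        (by rw [Subtype.image_preimage_coe, Set.inter_comm]))).symm.isOpenEmbedding).quasiSober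
    refine le_antisymm (le_of_forall_natCast_le fun k hk => ?_) ?_
    · obtain ⟨c, hc⟩ := exists_chain_of_le_topologicalKrullDim hk
      obtain ⟨ζ, hζ, hζc⟩ := hmaxY _ (c 0).2.2
      have hζx := hUx ζ hζ (hζc.mem_open hU (c 0).2.1)
      obtain ⟨D, hD⟩ := hS ζ
      obtain ⟨s, hs, hcs⟩ := exists_closedPt (c (Fin.last k)).1
      have hch : IsChain' fun i => (c i).1 := fun i =>
        ⟨(subtype_specializes_iff _ _).mp (hc i).1, fun e => (hc i).2 (Subtype.ext e)⟩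
      obtain ⟨n, hn, hn'⟩ := HasGen.trans (a := k) (b := 0) (ζ := ζ) ⟨_, hch, hζc, rfl⟩ (hasGen_zero hcs)
      obtain ⟨g, hg, hg0, hgl⟩ := hn'
      have h1 := (hD s hs (hg0.trans ((Unibranch.specializes_of_chain g hg _).trans (specializes_of_eq hgl)))).1 n g hg hg0 hgl
      have h2 := hM ζ hζ hζx
      rw [dim_closure hD] at h2
      have h2' : D ≤ M := by exact_mod_cast h2
      exact_mod_cast (show k ≤ M by omega)
    · obtain ⟨s, ⟨hsU, hsζ⟩, hs⟩ := nonempty_inter_closedPoints (Z := U ∩ closure ({ζ₀} : Set S))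
        ⟨ζ₀, hζ₀x.mem_open hU hxU, subset_closure rfl⟩ (hU.isLocallyClosed.inter isClosed_closure.isLocallyClosed)
      obtain ⟨D, hD⟩ := hS ζ₀
      obtain rfl : D = M := by
        rw [dim_closure hD] at hM₀
        exact_mod_cast hM₀
      obtain ⟨-, g, hg, hg0, hgl⟩ := hD s hs (specializes_iff_mem_closure.mpr hsζ)
      exact natCast_le_topologicalKrullDim (fun i => (⟨g i, (hgl ▸ specializes_last hg i).mem_open hU hsU,
        hY.stableUnderSpecialization (hg0.trans (Unibranch.specializes_of_chain g hg i)) hζ₀.1⟩ : ↥(U ∩ Y)))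
        fun i => ⟨(subtype_specializes_iff _ _).mpr (hg i).1, fun e => (hg i).2 (congrArg Subtype.val e)⟩
  have hsub : ∀ U : Set S, topologicalKrullDim ↥((Subtype.val : ↥Y → S) ⁻¹' U) = topologicalKrullDim ↥(U ∩ Y) := by
    intro U
    rw [IsHomeomorph.topologicalKrullDim_eq _ ((IsEmbedding.subtypeVal.homeomorphImage
      ((Subtype.val : ↥Y → S) ⁻¹' U)).trans (Homeomorph.setCongr (by rw [Subtype.image_preimage_coe, Set.inter_comm]))).isHomeomorph]
  have hloc : FlatMor.localDim ↥Y ⟨x, hx⟩ = (M : WithBot ℕ∞) := by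
    refine le_antisymm ?_ (le_iInf fun O => ?_)
    · refine (iInf_le _ ⟨⟨(Subtype.val : ↥Y → S) ⁻¹' U₀, hU₀.preimage continuous_subtype_val⟩, hxU₀⟩).trans (le_of_eq ?_)
      exact (hsub U₀).trans (hup U₀ hU₀ hxU₀ hU₀')
    · obtain ⟨U, hU, hUO⟩ := isOpen_induced_iff.mp O.1.2
      have hxU : x ∈ U ∩ U₀ := ⟨show (⟨x, hx⟩ : ↥Y) ∈ Subtype.val ⁻¹' U from hUO.ge O.2, hxU₀⟩
      rw [← hup (U ∩ U₀) (hU.inter hU₀) hxU (fun ζ h1 h2 => hU₀' ζ h1 h2.2), ← hsub]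
      have hle : (Subtype.val : ↥Y → S) ⁻¹' (U ∩ U₀) ⊆ (O.1 : Set ↥Y) := fun z hz => hUO.le hz.1
      exact (IsEmbedding.inclusion hle).isInducing.topologicalKrullDim_le
  refine ⟨?_, ?_, fun U hU hxU hUC => ?_⟩
  · rw [hloc, hDx, hgens, ← Nat.cast_add, Nat.add_sub_cancel' hDM]
  · rw [hloc]
    refine le_antisymm ?_ (iSup₂_le fun C hC' => ?_)
    · refine le_iSup₂_of_le (closure {(⟨ζ₀, hζ₀.1⟩ : ↥Y)}) ⟨hcomp ζ₀ hζ₀,
        specializes_iff_mem_closure.mp ((subtype_specializes_iff _ _).mpr hζ₀x)⟩ (le_of_eq ?_)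
      rw [hdimc, hM₀]
    · obtain ⟨z, rfl, hz⟩ := hC C hC'.1
      rw [hdimc]
      exact hM z.1 hz ((subtype_specializes_iff _ _).mp (specializes_iff_mem_closure.mpr hC'.2))
  · rw [hloc]
    refine hup U hU hxU fun ζ hζ hζU => ?_
    by_contra hn
    have := hUC _ (hcomp ζ hζ) fun h => hn ((subtype_specializes_iff _ _).mp (specializes_iff_mem_closure.mpr h))
    exact Set.disjoint_left.mp this (show (⟨ζ, hζ.1⟩ : ↥Y) ∈ Subtype.val ⁻¹' U from hζU) (subset_closure rfl)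

end Groth.Agent.Catenary
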