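import Groth.Agent.Catenary.Ring
import Groth.Prelude.Def_W4stktopologysheavesDim
import Mathlib.AlgebraicGeometry.Morphisms.FiniteType
import Mathlib.Topology.Sober
import Mathlib.AlgebraicGeometry.Noetherian

/-!
# Catenary spaces and schemes
-/

set_option autoImplicit false
set_option linter.style.haveILetI false
universe u v

open TopologicalSpace Topology AlgebraicGeometry CategoryTheory

namespace Groth.Agent.Catenary

theorem isCat_of_orderIso {α : Type u} {β : Type v} [PartialOrder α] [PartialOrder β] (e : α ≃o β) (h : IsCat α) :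
    IsCat β :=
  isCat_of_orderEmbedding e.symm.toOrderEmbedding (fun _ _ a _ _ => ⟨e a, e.symm_apply_apply a⟩) h

theorem isCat_dual {α : Type u} [PartialOrder α] (h : IsCat α) : IsCat αᵒᵈ := by
  have key : ∀ s : LTSeries αᵒᵈ, ∃ r : LTSeries α, r.length = s.length ∧ r.head = OrderDual.ofDual s.last ∧
      r.last = OrderDual.ofDual s.head ∧ (Sat s → Sat r) := fun s => by
    refine ⟨⟨s.length, fun i => OrderDual.ofDual (s i.rev), fun i => ?_⟩, rfl, ?_, ?_, fun hs i => ?_⟩
    · show OrderDual.ofDual (s (Fin.castSucc i).rev) < OrderDual.ofDual (s i.succ.rev)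
      rw [Fin.rev_castSucc, Fin.rev_succ]
      exact s.step i.rev
    · simp [RelSeries.head, RelSeries.last]
    · simp [RelSeries.head, RelSeries.last]
    · have h1 := (hs i.rev).toDual
      show OrderDual.ofDual (s (Fin.castSucc i).rev) ⋖ OrderDual.ofDual (s i.succ.rev)
      rw [Fin.rev_castSucc, Fin.rev_succ]
      exact h1
  refine ⟨fun p q hpq => ?_, fun s t h1 h2 hs ht => ?_⟩
  · obtain ⟨n, hn⟩ := h.1 (OrderDual.ofDual q) (OrderDual.ofDual p) hpq
    refine ⟨n, fun s hp hq => ?_⟩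
    obtain ⟨r, hr, hr1, hr2, -⟩ := key s
    exact hr ▸ hn r (by rw [hr1, hq]) (by rw [hr2, hp])
  · obtain ⟨r, hr, hr1, hr2, hrs⟩ := key s
    obtain ⟨r', hr', hr1', hr2', hrs'⟩ := key t
    rw [← hr, ← hr']
    exact h.2 r r' (by rw [hr1, hr1', h2]) (by rw [hr2, hr2', h1]) (hrs hs) (hrs' ht)

theorem isCatenarySpace_iff (X : Type u) [TopologicalSpace X] :
    PtTop.IsCatenarySpace X ↔ IsCat (IrreducibleCloseds X) := by
  constructor
  · intro h
    refine ⟨fun T T' hle => ?_, fun s t h1 h2 hs ht => ?_⟩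
    · obtain ⟨n, hn⟩ := ENat.ne_top_iff_exists.mp (h T T' hle).1
      refine ⟨n, fun s hs1 hs2 => ?_⟩
      have : (s.length : ℕ∞) ≤ PtTop.codim T (T' : Set X) :=
        le_iSup₂_of_le s ⟨hs1, hs2.le⟩ le_rfl
      rw [← hn] at this
      exact_mod_cast this
    · have h' := h s.head s.last (le_last s 0)
      have e1 := h'.2 s rfl rfl hs
      have e2 := h'.2 t h1.symm h2.symm ht
      exact_mod_cast e1.trans e2.symm
  · intro h T T' hle
    obtain ⟨s, hs1, hs2, hs, hmax⟩ := exists_sat h hle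
    have hcodim : PtTop.codim T (T' : Set X) = s.length := by
      refine le_antisymm (iSup₂_le fun t ht => ?_) (le_iSup₂_of_le s ⟨hs1, hs2.le⟩ le_rfl)
      rcases eq_or_lt_of_le (show t.last ≤ T' from ht.2) with he | hlt
      · exact_mod_cast hmax t ht.1 he
      · have := hmax (t.snoc T' hlt) (by simp [ht.1]) (by simp)
        rw [RelSeries.snoc_length] at this
        exact_mod_cast (Nat.le_succ _).trans this
    refine ⟨by rw [hcodim]; exact ENat.natCast_ne_top _, fun t ht1 ht2 ht => ?_⟩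
    rw [hcodim, h.2 t s (ht1.trans hs1.symm) (ht2.trans hs2.symm) ht hs]

theorem isCat_irreducibleCloseds_spec {R : Type u} [CommRing R] :
    IsCat (IrreducibleCloseds (PrimeSpectrum R)) ↔ CAlg.IsCatenary R :=
  ⟨fun h => isCat_of_orderIso (PrimeSpectrum.pointsEquivIrreducibleCloseds R).symm (isCat_dual h),
    fun h => isCat_dual (isCat_of_orderIso (PrimeSpectrum.pointsEquivIrreducibleCloseds R) h)⟩

theorem isCat_of_isOpenEmbedding {X Y : Type u} [TopologicalSpace X] [TopologicalSpace Y] (f : Y → X)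
    (hf : IsOpenEmbedding f) (h : IsCat (IrreducibleCloseds X)) : IsCat (IrreducibleCloseds Y) := by
  refine isCat_of_orderEmbedding ((IrreducibleCloseds.orderIsoOfIsOpenEmbedding f hf).toOrderEmbedding.trans
    (OrderEmbedding.subtype _)) (fun b₁ b₂ a h1 _ => ?_) h
  obtain ⟨y, hy⟩ := ((IrreducibleCloseds.orderIsoOfIsOpenEmbedding f hf) b₁).2
  refine ⟨(IrreducibleCloseds.orderIsoOfIsOpenEmbedding f hf).symm ⟨a, ⟨y, h1 hy⟩⟩, ?_⟩
  show ((IrreducibleCloseds.orderIsoOfIsOpenEmbedding f hf) ((IrreducibleCloseds.orderIsoOfIsOpenEmbedding f hf).symm _)).1 = _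
  rw [OrderIso.apply_symm_apply]

theorem isCat_of_open_cover {X : Type u} [TopologicalSpace X]
    (h : ∀ x : X, ∃ (Y : Type u) (_ : TopologicalSpace Y) (f : Y → X), IsOpenEmbedding f ∧ x ∈ Set.range f ∧
      IsCat (IrreducibleCloseds Y)) : IsCat (IrreducibleCloseds X) := by
  refine isCat_of_cover fun T T' hle => ?_
  obtain ⟨x, hx⟩ := T.isIrreducible.1
  obtain ⟨Y, _, f, hf, ⟨y, rfl⟩, hY⟩ := h x
  exact ⟨{V : IrreducibleCloseds X | (f ⁻¹' V).Nonempty}, ⟨fun a ha b _ c hc => ha.mono (Set.preimage_mono hc.1)⟩,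
    ⟨y, hx⟩, ⟨y, hle hx⟩, isCat_of_orderIso (IrreducibleCloseds.orderIsoOfIsOpenEmbedding f hf) hY⟩

theorem isCatenary_of_isCatenarySpace {X : Scheme.{u}} (h : PtTop.IsCatenarySpace X) {U : X.Opens}
    (hU : IsAffineOpen U) : CAlg.IsCatenary Γ(X, U) :=
  isCat_irreducibleCloseds_spec.mp
    (isCat_of_isOpenEmbedding hU.fromSpec hU.fromSpec.isOpenEmbedding ((isCatenarySpace_iff _).mp h))

theorem isCatenarySpace_of_affine_cover {X : Scheme.{u}}
    (h : ∀ x : X, ∃ U : X.Opens, IsAffineOpen U ∧ x ∈ U ∧ CAlg.IsCatenary Γ(X, U)) : PtTop.IsCatenarySpace X :=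
  (isCatenarySpace_iff _).mpr (isCat_of_open_cover fun x => by
    obtain ⟨U, hU, hxU, hc⟩ := h x
    exact ⟨Spec Γ(X, U), inferInstance, hU.fromSpec, hU.fromSpec.isOpenEmbedding,
      by rw [hU.range_fromSpec]; exact hxU, isCat_irreducibleCloseds_spec.mpr hc⟩)

theorem isCatenary_stalk {X : Scheme.{u}} {U : X.Opens} (hU : IsAffineOpen U) (x : X) (hxU : x ∈ U)
    (h : CAlg.IsCatenary Γ(X, U)) : CAlg.IsCatenary (X.presheaf.stalk x) := by
  letI := X.presheaf.algebra_section_stalk (⟨x, hxU⟩ : U)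
  haveI := hU.isLocalization_stalk ⟨x, hxU⟩
  exact isCatenary_of_isLocalization (hU.primeIdealOf ⟨x, hxU⟩).asIdeal.primeCompl _ h

theorem isUniversallyCatenary_stalk {X : Scheme.{u}} {U : X.Opens} (hU : IsAffineOpen U) (x : X) (hxU : x ∈ U)
    (h : CAlg.IsUniversallyCatenary Γ(X, U)) : CAlg.IsUniversallyCatenary (X.presheaf.stalk x) := by
  letI := X.presheaf.algebra_section_stalk (⟨x, hxU⟩ : U)
  haveI := hU.isLocalization_stalk ⟨x, hxU⟩
  exact isUniversallyCatenary_of_isLocalization (hU.primeIdealOf ⟨x, hxU⟩).asIdeal.primeCompl _ h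

theorem stalk_equiv_atPrime {X : Scheme.{u}} {U : X.Opens} (hU : IsAffineOpen U) (q : PrimeSpectrum Γ(X, U)) :
    ∃ x : X, x ∈ U ∧ Nonempty (X.presheaf.stalk x ≃+* Localization.AtPrime q.asIdeal) :=
  ⟨hU.fromSpec q, hU.range_fromSpec.le ⟨q, rfl⟩,
    ⟨((asIso (hU.fromSpec.stalkMap q)).commRingCatIsoToRingEquiv).trans (StructureSheaf.stalkIso _ q).toRingEquiv.symm⟩⟩

theorem isCatenary_of_stalks {X : Scheme.{u}} {U : X.Opens} (hU : IsAffineOpen U)
    (h : ∀ x ∈ U, CAlg.IsCatenary (X.presheaf.stalk x)) : CAlg.IsCatenary Γ(X, U) :=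
  isCatenary_of_forall_maximal fun m hm => by
    obtain ⟨x, hx, ⟨e⟩⟩ := stalk_equiv_atPrime hU ⟨m, hm.isPrime⟩
    exact isCatenary_of_ringEquiv e (h x hx)

theorem isUniversallyCatenary_of_ringEquiv {A B : Type u} [CommRing A] [CommRing B] (e : A ≃+* B)
    (hA : CAlg.IsUniversallyCatenary A) : CAlg.IsUniversallyCatenary B :=
  letI := e.toRingHom.toAlgebra
  haveI : Algebra.FiniteType A B := Algebra.FiniteType.of_surjective (Algebra.ofId A B) e.surjective
  isUniversallyCatenary_of_finiteType hA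

theorem isUniversallyCatenary_of_stalks {X : Scheme.{u}} [IsLocallyNoetherian X] {U : X.Opens} (hU : IsAffineOpen U)
    (h : ∀ x ∈ U, CAlg.IsUniversallyCatenary (X.presheaf.stalk x)) : CAlg.IsUniversallyCatenary Γ(X, U) := by
  haveI : IsNoetherianRing Γ(X, U) := IsLocallyNoetherian.component_noetherian ⟨U, hU⟩
  refine isUniversallyCatenary_of_forall_maximal fun m hm => ?_
  obtain ⟨x, hx, ⟨e⟩⟩ := stalk_equiv_atPrime hU ⟨m, hm.isPrime⟩
  exact isUniversallyCatenary_of_ringEquiv e (h x hx)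

/-- Universally catenary locally Noetherian schemes. -/
theorem universallyCatenary_iff (S : Scheme.{u}) [IsLocallyNoetherian S] :
    (∀ (X : Scheme.{u}) (f : X ⟶ S), LocallyOfFiniteType f → PtTop.IsCatenarySpace X) ↔
      ∀ s : S, CAlg.IsUniversallyCatenary (S.presheaf.stalk s) := by
  constructor
  · intro h s
    obtain ⟨V, hV, hsV, -⟩ := exists_isAffineOpen_mem_and_subset (U := (⊤ : S.Opens)) (x := s) trivial
    refine isUniversallyCatenary_stalk hV s hsV ⟨IsLocallyNoetherian.component_noetherian ⟨V, hV⟩, fun B _ _ hB => ?_⟩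
    haveI : LocallyOfFiniteType (Spec.map (CommRingCat.ofHom (algebraMap Γ(S, V) B))) :=
      HasRingHomProperty.Spec_iff.mpr (RingHom.finiteType_algebraMap.mpr hB)
    have hX := h _ (Spec.map (CommRingCat.ofHom (algebraMap Γ(S, V) B)) ≫ hV.fromSpec) inferInstance
    exact isCat_irreducibleCloseds_spec.mp ((isCatenarySpace_iff _).mp hX)
  · intro h X f hf
    refine isCatenarySpace_of_affine_cover fun x => ?_
    obtain ⟨V, hV, hxV, -⟩ := exists_isAffineOpen_mem_and_subset (U := (⊤ : S.Opens)) (x := f x) trivial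
    obtain ⟨W, hW, hxW, hWV⟩ := exists_isAffineOpen_mem_and_subset (U := f ⁻¹ᵁ V) (x := x) hxV
    refine ⟨W, hW, hxW, ?_⟩
    letI := (f.appLE V W hWV).hom.toAlgebra
    exact (isUniversallyCatenary_of_stalks hV fun z _ => h z).2 _ (f.finiteType_appLE hV hW hWV)

end Groth.Agent.Catenary
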