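import Groth.Agent.Catenary.Flat
import Groth.Agent.CMFlat.Localization
import Mathlib.RingTheory.Noetherian.Nilpotent

/-!
# Hartshorne's connectedness and equidimensionality of catenary `S₂` rings
-/

set_option autoImplicit false
set_option linter.style.haveILetI false
universe u

open IsLocalRing RingTheory.Sequence

namespace Groth.Agent.Catenary

theorem eq_bot_of_mul_eq_bot {R : Type u} [CommRing R] [IsLocalRing R] {I J : Ideal R} (h : I * J = ⊥) {x y : R}
    (hxI : x ∈ I ⊔ J) (hyI : y ∈ I ⊔ J) (hx : IsSMulRegular R x)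
    (hy : ∀ t u : R, y * t = x * u → ∃ e, t = x * e) : I = ⊥ ∨ J = ⊥ := by
  obtain ⟨a, ha, b, hb, rfl⟩ := Submodule.mem_sup.mp hxI
  obtain ⟨c, hc, d, hd, rfl⟩ := Submodule.mem_sup.mp hyI
  have h0 : ∀ s ∈ I, ∀ t ∈ J, s * t = 0 := fun s hs t ht => by
    have := Ideal.mul_mem_mul hs ht
    rwa [h, Ideal.mem_bot] at this
  have hx0 : ∀ t, (a + b) * t = 0 → t = 0 := fun t ht => hx (show (a + b) * t = (a + b) * 0 by rw [ht, mul_zero])
  obtain ⟨e, he⟩ := hy a c (by linear_combination h0 a ha d hd - h0 c hc b hb)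
  rcases IsLocalRing.isUnit_or_isUnit_one_sub_self e with hu | hu
  · -- `b` vanishes
    obtain ⟨v, rfl⟩ := hu
    have hbI : b = a * (1 - v) * ↑v⁻¹ := by
      have : b * v = a * (1 - v) := by linear_combination -he
      rw [← this, mul_assoc, Units.mul_inv, mul_one]
    have hb0 : b = 0 := hx0 b (by
      have h1 : b * b = 0 := by
        nth_rewrite 1 [hbI]
        linear_combination (1 - (v : R)) * ↑v⁻¹ * h0 a ha b hb
      linear_combination h0 a ha b hb + h1)
    refine Or.inr (eq_bot_iff.mpr fun t ht => ?_)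
    exact (Ideal.mem_bot).mpr (hx0 t (by rw [hb0, add_zero]; exact h0 a ha t ht))
  · obtain ⟨v, hv⟩ := hu
    have haJ : a = b * e * ↑v⁻¹ := by
      have : a * v = b * e := by rw [hv]; linear_combination he
      rw [← this, mul_assoc, Units.mul_inv, mul_one]
    have ha0 : a = 0 := hx0 a (by
      have h1 : a * a = 0 := by
        nth_rewrite 2 [haJ]
        linear_combination e * ↑v⁻¹ * h0 a ha b hb
      linear_combination h0 a ha b hb + h1)
    refine Or.inl (eq_bot_iff.mpr fun t ht => ?_)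
    exact (Ideal.mem_bot).mpr (hx0 t (by rw [ha0, zero_add, mul_comm]; exact h0 t ht b hb))

theorem regular_pow {R : Type u} [CommRing R] {x y : R} (hx : IsSMulRegular R x)
    (hy : ∀ t u : R, y * t = x * u → ∃ e, t = x * e) :
    ∀ n m : ℕ, ∀ t u : R, y ^ m * t = x ^ n * u → ∃ e, t = x ^ n * e := by
  have h1 : ∀ n : ℕ, ∀ t u : R, y * t = x ^ n * u → ∃ e, t = x ^ n * e := by
    intro n
    induction n with
    | zero => exact fun t _ _ => ⟨t, by simp⟩
    | succ k ih =>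
      intro t u h
      obtain ⟨t', rfl⟩ := hy t (x ^ k * u) (by rw [h, pow_succ']; ring)
      obtain ⟨e, rfl⟩ := ih t' u (hx (show x * (y * t') = x * (x ^ k * u) by linear_combination h))
      exact ⟨e, by ring⟩
  intro n m
  induction m with
  | zero => exact fun t u h => ⟨u, by simpa using h⟩
  | succ m ih =>
    intro t u h
    obtain ⟨e, he⟩ := ih (y * t) u (by rw [← h]; ring)
    exact h1 n t e he

/-- Hartshorne: a ring of depth two has connected punctured spectrum. -/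
theorem exists_prime_common {R : Type u} [CommRing R] [IsLocalRing R] [IsNoetherianRing R]
    (hd : (2 : ℕ∞) ≤ LocCoh.depth R R) (s t : Set (PrimeSpectrum R)) (hs : IsClosed s) (ht : IsClosed t)
    (hcov : ∀ p : PrimeSpectrum R, p.asIdeal ≠ maximalIdeal R → p ∈ s ∪ t)
    (hs' : ∃ p ∈ s, p.asIdeal ≠ maximalIdeal R) (ht' : ∃ p ∈ t, p.asIdeal ≠ maximalIdeal R) :
    ∃ p ∈ s ∩ t, p.asIdeal ≠ maximalIdeal R := by
  by_contra! hne
  obtain ⟨I, rfl⟩ := (PrimeSpectrum.isClosed_iff_zeroLocus_ideal s).mp hs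
  obtain ⟨J, rfl⟩ := (PrimeSpectrum.isClosed_iff_zeroLocus_ideal t).mp ht
  obtain ⟨rs, hlen, hw, hm⟩ := SerreReg.exists_list_of_hasRegSeq 2 (CMSop.hasRegSeq_of_depth hd)
  obtain ⟨x, y, rfl⟩ : ∃ x y, rs = [x, y] := by
    rcases rs with _ | ⟨x, _ | ⟨y, _ | ⟨z, l⟩⟩⟩ <;> simp at hlen
    exact ⟨x, y, rfl⟩
  have hw' := (isWeaklyRegular_cons_iff R x [y]).mp hw
  have hxreg : IsSMulRegular R x := hw'.1
  have hyreg : ∀ t u : R, y * t = x * u → ∃ e, t = x * e := fun t u h => by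
    have h1 := ((isWeaklyRegular_cons_iff _ y []).mp hw'.2).1
    have h2 : (Submodule.Quotient.mk t : QuotSMulTop x R) = 0 := h1 (show y • (Submodule.Quotient.mk t : QuotSMulTop x R) = y • 0 by
      rw [smul_zero, ← Submodule.Quotient.mk_smul, Submodule.Quotient.mk_eq_zero]
      rw [smul_eq_mul, h]
      exact Submodule.smul_mem_pointwise_smul u x ⊤ trivial)
    rw [Submodule.Quotient.mk_eq_zero, Submodule.mem_smul_pointwise_iff_exists] at h2
    obtain ⟨e, -, he⟩ := h2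
    exact ⟨e, he.symm⟩
  have hrad : maximalIdeal R ≤ (I ⊔ J).radical := by
    rw [Ideal.radical_eq_sInf]
    refine le_sInf fun P ⟨hle, hP⟩ => ?_
    exact (hne ⟨P, hP⟩ ⟨(le_sup_left.trans hle : I ≤ P), (le_sup_right.trans hle : J ≤ P)⟩).ge
  have hnil : I * J ≤ nilradical R := by
    rw [nilradical_eq_sInf]
    refine le_sInf fun P hP => ?_
    rcases eq_or_ne P (maximalIdeal R) with rfl | hPm
    · refine Ideal.mul_le_right.trans ?_
      refine le_maximalIdeal fun e => ?_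
      obtain ⟨p, hp, -⟩ := ht'
      exact p.2.ne_top (top_le_iff.mp (e ▸ (show J ≤ p.asIdeal from hp)))
    · rcases hcov ⟨P, hP⟩ hPm with h | h
      · exact Ideal.mul_le_left.trans h
      · exact Ideal.mul_le_right.trans h
  obtain ⟨k, hk⟩ := IsNoetherianRing.isNilpotent_nilradical R
  have hIJ : I ^ (k + 1) * J ^ (k + 1) = ⊥ := by
    rw [← mul_pow, eq_bot_iff]
    refine (Ideal.pow_right_mono hnil _).trans ?_
    rw [pow_succ, hk]
    simp
  have hrad' : maximalIdeal R ≤ (I ^ (k + 1) ⊔ J ^ (k + 1)).radical := by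
    refine hrad.trans ?_
    rw [Ideal.radical_le_radical_iff, sup_le_iff]
    exact ⟨fun z hz => ⟨k + 1, Ideal.mem_sup_left (Ideal.pow_mem_pow hz _)⟩,
      fun z hz => ⟨k + 1, Ideal.mem_sup_right (Ideal.pow_mem_pow hz _)⟩⟩
  obtain ⟨n, hn⟩ := hrad' (hm x List.mem_cons_self)
  obtain ⟨m, hm'⟩ := hrad' (hm y (List.mem_cons_of_mem _ List.mem_cons_self))
  have hxn : IsSMulRegular R (x ^ n) := hxreg.pow n
  rcases eq_bot_of_mul_eq_bot hIJ hn hm' hxn (regular_pow hxreg hyreg n m) with h | h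
  · obtain ⟨p, hp, hpm⟩ := ht'
    refine hpm (hne p ⟨?_, hp⟩)
    exact (p.2.pow_le_iff (Nat.succ_ne_zero k)).mp (h.le.trans bot_le)
  · obtain ⟨p, hp, hpm⟩ := hs'
    refine hpm (hne p ⟨hp, ?_⟩)
    exact (p.2.pow_le_iff (Nat.succ_ne_zero k)).mp (h.le.trans bot_le)

theorem isConnected_punctured {R : Type u} [CommRing R] [IsLocalRing R] [IsNoetherianRing R]
    (hd : (2 : ℕ∞) ≤ LocCoh.depth R R) : IsConnected {x : PrimeSpectrum R | x.asIdeal ≠ maximalIdeal R} := by
  refine ⟨?_, isPreconnected_closed_iff.mpr fun s t hs ht hcov hs' ht' => ?_⟩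
  · by_contra h
    rw [Set.not_nonempty_iff_eq_empty] at h
    haveI : Ring.KrullDimLE 0 R := Ring.KrullDimLE.mk₀ fun I hI => by
      have h1 : (⟨I, hI⟩ : PrimeSpectrum R) ∉ {x : PrimeSpectrum R | x.asIdeal ≠ maximalIdeal R} := by rw [h]; simp
      simp only [Set.mem_ofPred_eq, ne_eq, not_not] at h1
      exact h1 ▸ maximalIdeal.isMaximal R
    have h2 := hd.trans (CMFlat.depth_le_of_dim (d := 0) (by exact_mod_cast ringKrullDimZero_iff_ringKrullDim_eq_zero.mp ‹Ring.KrullDimLE 0 R›))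
    norm_num at h2
  · obtain ⟨p, hp, hpm⟩ := exists_prime_common hd s t hs ht (fun p hp => hcov hp)
      (by obtain ⟨p, hp, hp'⟩ := hs'; exact ⟨p, hp', hp⟩) (by obtain ⟨p, hp, hp'⟩ := ht'; exact ⟨p, hp', hp⟩)
    exact ⟨p, hpm, hp⟩

/-- A catenary local ring of depth two in codimension two is equidimensional. -/
theorem isEquidim_of_depth_two {A : Type u} [CommRing A] [IsLocalRing A] [IsNoetherianRing A] (hc : CAlg.IsCatenary A)
    (h : ∀ q : PrimeSpectrum A, (2 : ℕ∞) ≤ q.asIdeal.height →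
      (2 : ℕ∞) ≤ LocCoh.depth (Localization.AtPrime q.asIdeal) (Localization.AtPrime q.asIdeal))
    (p₀ : Ideal A) (hp₀ : p₀ ∈ minimalPrimes A) : ringKrullDim (A ⧸ p₀) = ringKrullDim A := by
  classical
  refine le_antisymm (ringKrullDim_le_of_surjective _ Ideal.Quotient.mk_surjective) ?_
  by_contra hbad
  let P : Set (PrimeSpectrum A) := {p | p.asIdeal ∈ minimalPrimes A ∧ ringKrullDim (A ⧸ p.asIdeal) = ringKrullDim A}
  let Q : Set (PrimeSpectrum A) := {p | p.asIdeal ∈ minimalPrimes A ∧ ringKrullDim (A ⧸ p.asIdeal) ≠ ringKrullDim A}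
  have hp₀Q : (⟨p₀, hp₀.1.1⟩ : PrimeSpectrum A) ∈ Q := ⟨hp₀, fun e => hbad e.ge⟩
  obtain ⟨p₁, hp₁⟩ : P.Nonempty := by
    obtain ⟨l, hl⟩ := Order.le_krullDim_iff.mp (SerreReg.exists_dim_nat A).choose_spec.ge
    obtain ⟨p, hp, hple⟩ := Ideal.exists_minimalPrimes_le (bot_le : (⊥ : Ideal A) ≤ l.head.asIdeal)
    refine ⟨⟨p, hp.1.1⟩, hp, le_antisymm (ringKrullDim_le_of_surjective _ Ideal.Quotient.mk_surjective) ?_⟩
    rw [(SerreReg.exists_dim_nat A).choose_spec, ringKrullDim_quotient]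
    exact Order.le_krullDim_iff.mpr ⟨⟨l.length, fun i => ⟨l i, hple.trans (l.monotone (Fin.zero_le i))⟩,
      fun i => l.step i⟩, hl⟩
  let S : Set (PrimeSpectrum A) := {q | ∃ a ∈ P, ∃ b ∈ Q, a ≤ q ∧ b ≤ q}
  have hS : S.Nonempty := ⟨closedPoint A, p₁, hp₁, _, hp₀Q, le_maximalIdeal p₁.2.ne_top, le_maximalIdeal hp₀.1.1.ne_top⟩
  obtain ⟨q, hqS, hqmin⟩ := exists_minimalFor_of_wellFoundedLT (fun q => q ∈ S) (fun q => q.asIdeal.height) hS
  obtain ⟨a, ha, b, hb, haq, hbq⟩ := hqS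
  have hab : a ≠ b := fun e => hb.2 (e ▸ ha.2)
  have hanq : a ≠ q := fun e => hab (le_antisymm (ha.1.2 ⟨b.2, bot_le⟩ (show b.asIdeal ≤ a.asIdeal from e ▸ hbq)) (e ▸ hbq))
  have hbnq : b ≠ q := fun e => hab (le_antisymm (e ▸ haq) (hb.1.2 ⟨a.2, bot_le⟩ (show a.asIdeal ≤ b.asIdeal from e ▸ haq)))
  by_cases h2 : (2 : ℕ∞) ≤ q.asIdeal.height
  · let R := Localization.AtPrime q.asIdeal
    haveI : IsNoetherianRing R := IsLocalization.isNoetherianRing q.asIdeal.primeCompl _ inferInstance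
    let c := localizationEmbedding q.asIdeal.primeCompl R
    have hfin : (minimalPrimes A).Finite := minimalPrimes.finite_of_isNoetherianRing A
    have hclosed : ∀ T : Set (PrimeSpectrum A), (∀ p ∈ T, p.asIdeal ∈ minimalPrimes A) →
        IsClosed {r : PrimeSpectrum R | ∃ p ∈ T, p ≤ c r} := fun T hT => by
      have hTfin : T.Finite := (hfin.preimage fun x _ y _ e => PrimeSpectrum.ext e).subset hT
      have : {r : PrimeSpectrum R | ∃ p ∈ T, p ≤ c r} =
          ⋃ p ∈ T, PrimeSpectrum.comap (algebraMap A R) ⁻¹' PrimeSpectrum.zeroLocus (p.asIdeal : Set A) := by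
        ext r
        simp only [Set.mem_ofPred_eq, Set.mem_iUnion, Set.mem_preimage, PrimeSpectrum.mem_zeroLocus]
        exact ⟨fun ⟨p, h1, h2⟩ => ⟨p, h1, h2⟩, fun ⟨p, h1, h2⟩ => ⟨p, h1, h2⟩⟩
      rw [this]
      exact hTfin.isClosed_biUnion fun p _ => (PrimeSpectrum.isClosed_zeroLocus _).preimage (PrimeSpectrum.continuous_comap _)
    have hcq : c (closedPoint R) = q := PrimeSpectrum.ext Localization.AtPrime.under_maximalIdeal
    have hne : ∀ r : PrimeSpectrum R, r.asIdeal ≠ maximalIdeal R ↔ c r ≠ q := fun r =>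
      ⟨fun hr e => hr (congrArg PrimeSpectrum.asIdeal (c.injective (e.trans hcq.symm))),
        fun hr e => hr ((congrArg c (PrimeSpectrum.ext e : r = closedPoint R)).trans hcq)⟩
    have hlift : ∀ p : PrimeSpectrum A, p ≤ q → ∃ r, c r = p := fun p hp => by
      show p ∈ Set.range c
      rw [range_localizationEmbedding]
      exact Set.disjoint_left.mpr fun z hz hzp => hz (hp hzp)
    obtain ⟨r, ⟨⟨a', ha', ha'r⟩, ⟨b', hb', hb'r⟩⟩, hrm⟩ := exists_prime_common (h q h2)
      {r | ∃ p ∈ P, p ≤ c r} {r | ∃ p ∈ Q, p ≤ c r} (hclosed P fun p hp => hp.1) (hclosed Q fun p hp => hp.1)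
      (fun r _ => by
        obtain ⟨p, hp, hpr⟩ := Ideal.exists_minimalPrimes_le (bot_le : (⊥ : Ideal A) ≤ (c r).asIdeal)
        by_cases e : ringKrullDim (A ⧸ p) = ringKrullDim A
        · exact Or.inl ⟨⟨p, hp.1.1⟩, ⟨hp, e⟩, hpr⟩
        · exact Or.inr ⟨⟨p, hp.1.1⟩, ⟨hp, e⟩, hpr⟩)
      (by obtain ⟨r, hr⟩ := hlift a haq; exact ⟨r, ⟨a, ha, hr.ge⟩, (hne r).mpr (hr ▸ hanq)⟩)
      (by obtain ⟨r, hr⟩ := hlift b hbq; exact ⟨r, ⟨b, hb, hr.ge⟩, (hne r).mpr (hr ▸ hbnq)⟩)
    have hlt : c r < q := lt_of_le_of_ne ((c.monotone (le_maximalIdeal r.2.ne_top : r ≤ closedPoint R)).trans_eq hcq) ((hne r).mp hrm)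
    have hlt' : (c r).asIdeal.height < q.asIdeal.height :=
      Ideal.height_strict_mono_of_isPrime (show (c r).asIdeal < q.asIdeal from hlt)
    exact absurd (hqmin ⟨a', ha', b', hb', ha'r, hb'r⟩ hlt'.le) (not_le.mpr hlt')
  · have key : ∀ x : PrimeSpectrum A, x ≤ q → x ≠ q →
        ringKrullDim (A ⧸ x.asIdeal) = ringKrullDim (A ⧸ q.asIdeal) + 1 := fun x hxq hxne => by
      let π := Ideal.Quotient.mk x.asIdeal
      haveI : Nontrivial (A ⧸ x.asIdeal) := Ideal.Quotient.nontrivial_iff.mpr x.2.ne_top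
      haveI : IsLocalRing (A ⧸ x.asIdeal) := IsLocalRing.of_surjective' _ Ideal.Quotient.mk_surjective
      haveI hQ : (q.asIdeal.map π).IsPrime :=
        Ideal.map_isPrime_of_surjective Ideal.Quotient.mk_surjective (by rw [Ideal.mk_ker]; exact hxq)
      have h1 := dim_domain_add (isCatenary_of_surjective π Ideal.Quotient.mk_surjective hc) (q.asIdeal.map π)
      rw [ringKrullDim_eq_of_ringEquiv (DoubleQuot.quotQuotEquivQuotOfLE hxq),
        show (q.asIdeal.map π).height = 1 from ?_, WithBot.coe_one] at h1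
      · exact h1.symm
      refine le_antisymm ?_ ?_
      · refine le_trans ?_ (Order.le_of_lt_succ ?_ : q.asIdeal.height ≤ 1)
        · rw [(⟨q.asIdeal.map π, hQ⟩ : PrimeSpectrum (A ⧸ x.asIdeal)).height_eq_orderHeight, q.height_eq_orderHeight]
          refine le_trans (Order.height_le_height_apply_of_strictMono _
            (RingHom.strictMono_comap_of_surjective (f := π) Ideal.Quotient.mk_surjective) _) (le_of_eq ?_)
          congr 1
          refine PrimeSpectrum.ext ?_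
          show (q.asIdeal.map π).comap π = q.asIdeal
          rw [Ideal.comap_map_of_surjective _ Ideal.Quotient.mk_surjective, ← RingHom.ker_eq_comap_bot, Ideal.mk_ker,
            sup_eq_left.mpr hxq]
        · rw [Order.succ_eq_add_one, one_add_one_eq_two]
          exact not_le.mp h2
      · rw [Order.one_le_iff_ne_zero, Ne, Ideal.height_eq_zero_iff_eq_bot, Ideal.map_eq_bot_iff_le_ker, Ideal.mk_ker]
        exact fun e => hxne (le_antisymm hxq e)
    exact hb.2 ((key b hbq hbnq).trans ((key a haq hanq).symm.trans ha.2))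

end Groth.Agent.Catenary
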