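import Groth.Agent.Catenary.NormalDepth
import Groth.Agent.Catenary.Hartshorne
import Groth.Agent.InvFin.Depth

/-!
# Serre's criterion for normality
-/

set_option autoImplicit false
set_option linter.style.haveILetI false
universe u

open IsLocalRing RingTheory.Sequence

namespace Groth.Agent.Catenary

/-- A Noetherian normal local domain of dimension at most one is regular. -/
theorem isRegularLocalRing_of_normal {A : Type u} [CommRing A] [IsLocalRing A] [IsNoetherianRing A] [IsDomain A]
    [IsIntegrallyClosed A] (hd : ringKrullDim A ≤ 1) : IsRegularLocalRing A := by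
  haveI : Ring.KrullDimLE 1 A := Ring.krullDimLE_iff.mpr hd
  haveI : Ring.DimensionLEOne A := ⟨fun {p} hp hpp => hpp.isMaximal_of_ne_bot hp⟩
  haveI : IsDedekindRing A := (isDedekindRing_iff A (FractionRing A)).mpr
    ⟨inferInstance, inferInstance, fun {x} hx => IsIntegrallyClosed.isIntegral_iff.mp hx⟩
  haveI : IsDedekindDomain A := {}
  infer_instance

/-- Reflexion of normality from the punctured spectrum in depth two. -/
theorem normal_of_depth_two {A : Type u} [CommRing A] [IsLocalRing A] [IsNoetherianRing A]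
    (hd : (2 : ℕ∞) ≤ LocCoh.depth A A)
    (h : ∀ Q : PrimeSpectrum A, Q.asIdeal ≠ maximalIdeal A →
      IsDomain (Localization.AtPrime Q.asIdeal) ∧ IsIntegrallyClosed (Localization.AtPrime Q.asIdeal)) :
    IsDomain A ∧ IsIntegrallyClosed A := by
  classical
  obtain ⟨rs, hlen, hw, hm⟩ := SerreReg.exists_list_of_hasRegSeq 2 (CMSop.hasRegSeq_of_depth hd)
  obtain ⟨x, y, rfl⟩ : ∃ x y, rs = [x, y] := by
    rcases rs with _ | ⟨x, _ | ⟨y, _ | ⟨z, l⟩⟩⟩ <;> simp at hlen
    exact ⟨x, y, rfl⟩
  have hw' := (isWeaklyRegular_cons_iff A x [y]).mp hw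
  have hxreg : IsSMulRegular A x := hw'.1
  have hyreg : ∀ t u : A, y * t = x * u → ∃ e, t = x * e := fun t u h => by
    have h1 := ((isWeaklyRegular_cons_iff _ y []).mp hw'.2).1
    have h2 : (Submodule.Quotient.mk t : QuotSMulTop x A) = 0 := h1 (show y • (Submodule.Quotient.mk t : QuotSMulTop x A) = y • 0 by
      rw [smul_zero, ← Submodule.Quotient.mk_smul, Submodule.Quotient.mk_eq_zero, smul_eq_mul, h]
      exact Submodule.smul_mem_pointwise_smul u x ⊤ trivial)
    rw [Submodule.Quotient.mk_eq_zero, Submodule.mem_smul_pointwise_iff_exists] at h2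
    obtain ⟨e, -, he⟩ := h2
    exact ⟨e, he.symm⟩
  have hxm : x ∈ maximalIdeal A := hm x List.mem_cons_self
  have hym : y ∈ maximalIdeal A := hm y (List.mem_cons_of_mem _ List.mem_cons_self)
  -- an ideal not contained in any punctured prime contains powers of `x` and `y`
  have hrad : ∀ J : Ideal A, (∀ Q : PrimeSpectrum A, Q.asIdeal ≠ maximalIdeal A → ¬ J ≤ Q.asIdeal) →
      maximalIdeal A ≤ J.radical := fun J hJ => by
    rw [Ideal.radical_eq_sInf]
    refine le_sInf fun P ⟨hle, hP⟩ => ?_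
    by_contra hne
    exact hJ ⟨P, hP⟩ (fun e => hne e.ge) hle
  -- reduced
  haveI : IsReduced A := ⟨fun a ha => by
    let J : Ideal A := LinearMap.ker (LinearMap.toSpanSingleton A A a)
    obtain ⟨n, hn⟩ := hrad J (fun Q hQ hle => by
      haveI := (h Q hQ).1
      have h0 : algebraMap A (Localization.AtPrime Q.asIdeal) a = 0 := (ha.map _).eq_zero
      obtain ⟨s, hs⟩ := (IsLocalization.map_eq_zero_iff Q.asIdeal.primeCompl _ a).mp h0
      exact s.2 (hle (show (s : A) • a = 0 from hs))) hxm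
    exact (hxreg.pow n) (show x ^ n • a = x ^ n • 0 by rw [smul_zero]; exact hn)⟩
  -- a unique minimal prime
  have hne : ∀ p ∈ minimalPrimes A, p ≠ maximalIdeal A := fun p hp e => by
    have hx := Ideal.disjoint_nonZeroDivisors_of_mem_minimalPrimes hp
    exact hx.le_bot ⟨(e ▸ hxm : x ∈ p), mem_nonZeroDivisors_iff_right.mpr fun z hz => hxreg (by
      show x * z = x * 0
      rw [mul_zero, mul_comm, hz])⟩
  have huniq : ∀ p q, p ∈ minimalPrimes A → q ∈ minimalPrimes A → p = q := fun p q hp hq => by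
    by_contra hpq
    let T : Set (PrimeSpectrum A) := ⋃ r ∈ {r ∈ minimalPrimes A | r ≠ p}, PrimeSpectrum.zeroLocus (r : Set A)
    have hT : IsClosed T :=
      ((minimalPrimes.finite_of_isNoetherianRing A).subset fun r hr => hr.1).isClosed_biUnion
        fun r _ => PrimeSpectrum.isClosed_zeroLocus _
    obtain ⟨P, ⟨hPp, hPT⟩, hPm⟩ := exists_prime_common hd (PrimeSpectrum.zeroLocus (p : Set A)) T
      (PrimeSpectrum.isClosed_zeroLocus _) hT (fun P _ => by
        obtain ⟨r, hr, hrP⟩ := Ideal.exists_minimalPrimes_le (bot_le : (⊥ : Ideal A) ≤ P.asIdeal)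
        by_cases e : r = p
        · exact Or.inl (e ▸ hrP)
        · exact Or.inr (Set.mem_biUnion (show r ∈ {r ∈ minimalPrimes A | r ≠ p} from ⟨hr, e⟩) hrP))
      ⟨⟨p, hp.1.1⟩, (fun a ha => ha), hne p hp⟩
      ⟨⟨q, hq.1.1⟩, Set.mem_biUnion (show q ∈ {r ∈ minimalPrimes A | r ≠ p} from ⟨hq, Ne.symm hpq⟩) (fun a ha => ha), hne q hq⟩
    obtain ⟨r, ⟨hr, hrp⟩, hrP⟩ := Set.mem_iUnion₂.mp hPT
    haveI := (h P hPm).1
    haveI := hp.1.1
    haveI := hr.1.1
    let R' := Localization.AtPrime P.asIdeal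
    let c := RingHom.ker (algebraMap A R')
    haveI : c.IsPrime := RingHom.ker_isPrime _
    have hle : ∀ t ∈ minimalPrimes A, t ≤ P.asIdeal → c ≤ t := fun t ht htP a ha => by
      obtain ⟨s, hs⟩ := (IsLocalization.map_eq_zero_iff P.asIdeal.primeCompl _ a).mp ha
      rcases ht.1.1.mem_or_mem (show (s : A) * a ∈ t by rw [hs]; exact t.zero_mem) with h | h
      · exact absurd (htP h) s.2
      · exact h
    have h1 := hle p hp hPp
    have h2 := hle r hr hrP
    exact hrp (le_antisymm (hr.2 ⟨inferInstance, bot_le⟩ h2 |>.trans h1) (hp.2 ⟨inferInstance, bot_le⟩ h1 |>.trans h2))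
  haveI : IsDomain A := by
    obtain ⟨p, hp, -⟩ := Ideal.exists_minimalPrimes_le (bot_le : (⊥ : Ideal A) ≤ maximalIdeal A)
    have hbot : p = ⊥ := by
      have := Ideal.sInf_minimalPrimes (I := (⊥ : Ideal A))
      rw [← Ideal.zero_eq_bot, show (0 : Ideal A).radical = nilradical A from rfl, nilradical_eq_zero] at this
      refine le_antisymm ?_ bot_le
      rw [← Ideal.zero_eq_bot, ← this]
      exact le_sInf fun r hr => (huniq p r hp (by rwa [Ideal.zero_eq_bot] at hr)).le
    haveI : (⊥ : Ideal A).IsPrime := hbot ▸ hp.1.1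
    exact IsDomain.of_bot_isPrime A
  refine ⟨inferInstance, (isIntegrallyClosed_iff (FractionRing A)).mpr fun {z} hz => ?_⟩
  let K := FractionRing A
  let J : Ideal A := (LinearMap.range (Algebra.linearMap A K)).comap (LinearMap.toSpanSingleton A K z)
  have hJ : ∀ Q : PrimeSpectrum A, Q.asIdeal ≠ maximalIdeal A → ¬ J ≤ Q.asIdeal := fun Q hQ hle => by
    haveI := (h Q hQ).1
    haveI := (h Q hQ).2
    let B := Localization.AtPrime Q.asIdeal
    haveI : IsFractionRing B K := IsFractionRing.isFractionRing_of_isDomain_of_isLocalization Q.asIdeal.primeCompl B K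
    obtain ⟨w, hw⟩ := IsIntegrallyClosed.isIntegral_iff.mp (hz.tower_top (A := B))
    obtain ⟨⟨a, s⟩, hs⟩ := IsLocalization.surj Q.asIdeal.primeCompl w
    refine s.2 (hle ⟨a, ?_⟩)
    show algebraMap A K a = (s : A) • z
    rw [← hw, Algebra.smul_def, IsScalarTower.algebraMap_apply A B K, IsScalarTower.algebraMap_apply A B K (s : A),
      ← hs, map_mul, mul_comm]
  obtain ⟨n, b, hb⟩ := hrad J hJ hxm
  obtain ⟨m, c, hc⟩ := hrad J hJ hym
  have hb' : algebraMap A K b = algebraMap A K (x ^ n) * z := by rw [← Algebra.smul_def]; exact hb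
  have hc' : algebraMap A K c = algebraMap A K (y ^ m) * z := by rw [← Algebra.smul_def]; exact hc
  obtain ⟨e, he⟩ := regular_pow hxreg hyreg n m b c (IsFractionRing.injective A K (by
    rw [map_mul, map_mul, hb', hc']; ring))
  have hx0 : algebraMap A K (x ^ n) ≠ 0 := by
    have : x ≠ 0 := fun e0 => one_ne_zero (α := A) (hxreg (show x * 1 = x * 0 by rw [e0, zero_mul, zero_mul]))
    simpa using pow_ne_zero n this
  exact ⟨e, mul_left_cancel₀ hx0 (by rw [← map_mul, ← he, hb'])⟩

end Groth.Agent.Catenary
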