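import Groth.Agent.Catenary.Ring
import Groth.Agent.CMFlat.Quotient
import Groth.Agent.S2092

/-!
# Cohen–Macaulay rings are universally catenary
-/

set_option autoImplicit false
set_option linter.style.haveILetI false
universe u

open IsLocalRing RingTheory.Sequence

namespace Groth.Agent.Catenary

/-- A regular sequence inside a prime is no longer than its height. -/
theorem length_le_height {R : Type u} [CommRing R] [IsNoetherianRing R] {rs : List R}
    (h : IsWeaklyRegular R rs) (p : Ideal R) [p.IsPrime] (hp : ∀ r ∈ rs, r ∈ p) :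
    (rs.length : ℕ∞) ≤ p.height := by
  haveI : IsNoetherianRing (Localization.AtPrime p) := IsLocalization.isNoetherianRing p.primeCompl _ inferInstance
  obtain ⟨d, hd⟩ := SerreReg.exists_dim_nat (Localization.AtPrime p)
  have h1 : IsWeaklyRegular (Localization.AtPrime p) (rs.map (algebraMap R (Localization.AtPrime p))) := h.of_flat
  have h2 := (CMFlat.le_depth_of_isWeaklyRegular h1 fun r hr => by
    obtain ⟨s, hs, rfl⟩ := List.mem_map.mp hr
    exact (IsLocalization.AtPrime.to_map_mem_maximal_iff (Localization.AtPrime p) p s).mpr (hp s hs)).trans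
    (CMFlat.depth_le_of_dim hd)
  rw [List.length_map] at h2
  refine h2.trans (le_of_eq ?_)
  have := IsLocalization.AtPrime.ringKrullDim_eq_height p (Localization.AtPrime p)
  rw [hd, ← WithBot.coe_natCast, WithBot.coe_inj] at this
  exact this

/-- In a Cohen–Macaulay local ring heights and dimensions of quotients are complementary. -/
theorem height_add_dim {R : Type u} [CommRing R] [LocCoh.IsCohenMacaulayLocalRing R] (p : Ideal R) [p.IsPrime] :
    ringKrullDim (R ⧸ p) + (p.height : WithBot ℕ∞) = ringKrullDim R := by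
  refine le_antisymm (CMFlat.ringKrullDim_quotient_add_le p) ?_
  obtain ⟨n, hn⟩ := SerreReg.exists_dim_nat R
  obtain ⟨rs, hw, hmem, hle⟩ := CMFlat.exists_regular_of_prime n R hn p
  have hm : ∀ r ∈ rs, r ∈ maximalIdeal R := fun r hr => le_maximalIdeal (Ideal.IsPrime.ne_top inferInstance) (hmem r hr)
  have hI : Ideal.ofList rs ≤ p := Ideal.span_le.mpr hmem
  haveI hcm := CMFlat.isCohenMacaulayLocalRing_quotient_ofList (List.replicate rs.length ⟨(), ()⟩) R rs (by simp) hw hm
  let π := Ideal.Quotient.mk (Ideal.ofList rs)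
  haveI : (p.map π).IsPrime := Ideal.map_isPrime_of_surjective Ideal.Quotient.mk_surjective (by rwa [Ideal.mk_ker])
  have hmin : p.map π ∈ minimalPrimes (R ⧸ Ideal.ofList rs) := by
    obtain ⟨P, hP, hPp⟩ := Ideal.exists_minimalPrimes_le (I := Ideal.ofList rs) (J := p) hI
    haveI := hP.1.1
    rcases eq_or_lt_of_le hPp with rfl | hlt
    · rw [Ideal.minimalPrimes_eq_comap] at hP
      obtain ⟨P', hP', rfl⟩ := hP
      rwa [Ideal.map_comap_of_surjective _ Ideal.Quotient.mk_surjective]
    · have h1 := length_le_height hw P fun r hr => hP.1.2 (Ideal.subset_span hr)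
      have h2 := Ideal.height_strict_mono_of_isPrime hlt
      exact absurd (h2.trans_le (hle.trans h1)) (lt_irrefl _)
  have hass : p.map π ∈ associatedPrimes (R ⧸ Ideal.ofList rs) (R ⧸ Ideal.ofList rs) :=
    Module.associatedPrimes.minimalPrimes_annihilator_subset_associatedPrimes _ _ (by
      rwa [show Module.annihilator (R ⧸ Ideal.ofList rs) (R ⧸ Ideal.ofList rs) = ⊥ from
        Module.annihilator_eq_bot.mpr inferInstance])
  obtain ⟨e, he⟩ := SerreReg.exists_dim_nat (R ⧸ Ideal.ofList rs)
  have h3 := CMSop.le_ringKrullDim_quotient_of_hasRegSeq e inferInstance (CMFlat.hasRegSeq_of_cm he) (p.map π) hass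
  rw [ringKrullDim_eq_of_ringEquiv (DoubleQuot.quotQuotEquivQuotOfLE hI), ← he] at h3
  classical
  have h1 := ringKrullDim_le_ringKrullDim_quotient_add_card (R := R) rs.toFinset (fun x hx => by
    rw [IsLocalRing.ringJacobson_eq_maximalIdeal]; exact hm x (List.mem_toFinset.mp hx))
  rw [show Ideal.span (rs.toFinset : Set R) = Ideal.ofList rs from congrArg Ideal.span (by ext; simp)] at h1
  refine h1.trans (add_le_add h3 ?_)
  have h4 : ((rs.toFinset.card : ℕ∞)) ≤ p.height :=
    (Nat.cast_le.mpr (List.toFinset_card_le rs)).trans (length_le_height hw p hmem)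
  exact_mod_cast h4

/-- A Cohen–Macaulay ring is catenary. -/
theorem isCatenary_of_cm (A : Type u) [CommRing A] [LocCoh.IsCohenMacaulayRing A] : CAlg.IsCatenary A := by
  refine isCat_of_grade fun _ => ⟨fun a => a.asIdeal.height.toNat, fun a b hab _ => ?_, fun p q hpq _ => ?_⟩
  · have h1 : a.asIdeal.height ≠ ⊤ := a.asIdeal.height_ne_top a.2.ne_top
    have h2 : b.asIdeal.height ≠ ⊤ := b.asIdeal.height_ne_top b.2.ne_top
    have h := Ideal.height_strict_mono_of_isPrime (J := b.asIdeal) (show a.asIdeal < b.asIdeal from hab)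
    rw [← ENat.natCast_toNat h1, ← ENat.natCast_toNat h2, Nat.cast_lt] at h
    exact h
  let R := Localization.AtPrime q.asIdeal
  haveI : LocCoh.IsCohenMacaulayLocalRing R :=
    LocCoh.IsCohenMacaulayRing.isCohenMacaulayLocalRing_localization q.asIdeal
  let e := localizationEmbedding q.asIdeal.primeCompl R
  have hrange : Set.range e = {x : PrimeSpectrum A | x ≤ q} := by
    rw [range_localizationEmbedding]
    ext x
    exact ⟨fun h z hz => by_contra fun hzq => Set.disjoint_left.mp h hzq hz,
      fun h => Set.disjoint_left.mpr fun z hz hzx => hz (h hzx)⟩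
  obtain ⟨p', hp'⟩ : p ∈ Set.range e := by rw [hrange]; exact hpq.le
  have hq' : e (closedPoint R) = q := PrimeSpectrum.ext (Localization.AtPrime.comap_maximalIdeal)
  have hlt : p' < closedPoint R := e.lt_iff_lt.mp (by rw [hp', hq']; exact hpq.lt)
  have hdim : ringKrullDim (R ⧸ p'.asIdeal) = 1 := by
    have h1 : ringKrullDim (R ⧸ p'.asIdeal) = (Order.coheight p' : WithBot ℕ∞) := by
      rw [ringKrullDim_quotient, Order.coheight_eq_krullDim_Ici]; rfl
    rw [h1, show (Order.coheight p' : ℕ∞) = 1 from ?_]
    · rfl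
    refine le_antisymm (Order.coheight_le fun s hs => ?_) ?_
    · by_contra hcon
      have hlen : 2 ≤ s.length := by
        rcases Nat.lt_or_ge s.length 2 with h | h
        · exact absurd (by exact_mod_cast (show s.length ≤ 1 by omega)) hcon
        · exact h
      have h1 : s.head < s ⟨1, by omega⟩ := s.strictMono (by simp [Fin.lt_def])
      have h2 : s ⟨1, by omega⟩ < s ⟨2, by omega⟩ := s.strictMono (by simp [Fin.lt_def])
      rw [hs] at h1
      refine hpq.2 (c := e (s ⟨1, by omega⟩)) (hp' ▸ e.lt_iff_lt.mpr h1) (lt_of_lt_of_eq (e.lt_iff_lt.mpr ?_) hq')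
      exact h2.trans_le (le_maximalIdeal (s ⟨2, by omega⟩).2.ne_top)
    · exact le_trans (by simp) (Order.length_le_coheight (x := p')
        (p := (RelSeries.singleton _ p').snoc (closedPoint R) hlt) (by simp))
  have h := height_add_dim p'.asIdeal
  have hhp : p'.asIdeal.height = p.asIdeal.height := by
    rw [← hp']
    exact (IsLocalization.height_under q.asIdeal.primeCompl p'.asIdeal).symm
  rw [hdim, hhp, IsLocalization.AtPrime.ringKrullDim_eq_height q.asIdeal R, ← WithBot.coe_one, ← WithBot.coe_add,
    WithBot.coe_inj] at h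
  show q.asIdeal.height.toNat = p.asIdeal.height.toNat + 1
  rw [← h, ENat.toNat_add ENat.one_ne_top (p.asIdeal.height_ne_top p.2.ne_top)]
  exact add_comm _ _

/-- A Cohen–Macaulay ring is universally catenary. -/
theorem isUniversallyCatenary_of_cm (A : Type u) [CommRing A] [LocCoh.IsCohenMacaulayRing A] :
    CAlg.IsUniversallyCatenary A :=
  isUniversallyCatenary_of_polynomial fun n =>
    haveI := S2092.result (R := A) n
    isCatenary_of_cm _

end Groth.Agent.Catenary
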