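import Groth.Agent.Catenary.Ring
import Groth.Agent.DimFormula.Scheme
import Mathlib.RingTheory.RingHom.Flat
import Mathlib.AlgebraicGeometry.Noetherian

/-!
# The dimension formula between two points
-/

set_option autoImplicit false
set_option linter.style.haveILetI false
universe u

open CategoryTheory AlgebraicGeometry Topology TopologicalSpace
open Groth.Agent Groth.Agent.Unibranch Groth.Agent.EquidimPt Groth.Agent.DimFormula

namespace Groth.Agent.Catenary

theorem isUniversallyCatenary_of_ringEquiv' {A B : Type u} [CommRing A] [CommRing B] (e : A ≃+* B)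
    (hA : CAlg.IsUniversallyCatenary A) : CAlg.IsUniversallyCatenary B :=
  letI := e.toRingHom.toAlgebra
  haveI : Algebra.FiniteType A B := Algebra.FiniteType.of_surjective (Algebra.ofId A B) e.surjective
  isUniversallyCatenary_of_finiteType hA

/-- **The dimension formula** between two primes `q ≤ m` of a finite type algebra over a ring
with universally catenary local ring below `m`. -/
theorem exists_rel_dimension_formula {A B : Type u} [CommRing A] [IsNoetherianRing A] [CommRing B]
    [Algebra A B] [Algebra.FiniteType A B] (q m : Ideal B) [q.IsPrime] [m.IsPrime] (hqm : q ≤ m) (hA : CAlg.IsUniversallyCatenary (Localization.AtPrime (m.under A))) :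
    ∃ a c : ℕ, (m.map (Ideal.Quotient.mk q)).height = a ∧
      ((m.under A).map (Ideal.Quotient.mk (q.under A))).height = c ∧
      a + Unibranch.rdim A m = c + Unibranch.rdim A q := by
  haveI : IsNoetherianRing B := Algebra.FiniteType.isNoetherianRing A B
  obtain ⟨n, φ, hφ⟩ := Algebra.FiniteType.iff_quotient_mvPolynomial''.mp ‹Algebra.FiniteType A B›
  have key : ∀ (I : Ideal B) [I.IsPrime], ∃ (ψ : MvPolynomial (Fin n) (A ⧸ I.under A) →ₐ[A ⧸ I.under A] B ⧸ I) (h : ℕ),
      Function.Surjective ψ ∧ (RingHom.ker ψ.toRingHom).height = h ∧ h + Unibranch.rdim A I = n ∧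
      ∀ b, ψ (MvPolynomial.map (Ideal.Quotient.mk (I.under A)) b) = Ideal.Quotient.mk I (φ b) := by
    intro I _
    let ψ : MvPolynomial (Fin n) (A ⧸ I.under A) →ₐ[A ⧸ I.under A] B ⧸ I :=
      MvPolynomial.aeval fun i => Ideal.Quotient.mk I (φ (MvPolynomial.X i))
    let π : MvPolynomial (Fin n) A →+* MvPolynomial (Fin n) (A ⧸ I.under A) :=
      MvPolynomial.map (Ideal.Quotient.mk (I.under A))
    have hπψ : ∀ b, ψ (π b) = Ideal.Quotient.mk I (φ b) := fun b => by
      refine RingHom.congr_fun (f := ψ.toRingHom.comp π) (g := (Ideal.Quotient.mk I).comp φ.toRingHom)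
        (MvPolynomial.ringHom_ext (fun r => ?_) fun i => ?_) b
      · show ψ (π (MvPolynomial.C r)) = Ideal.Quotient.mk I (φ (algebraMap A _ r))
        rw [MvPolynomial.map_C, MvPolynomial.aeval_C, φ.commutes]
        rfl
      · show ψ (π (MvPolynomial.X i)) = _
        rw [MvPolynomial.map_X, MvPolynomial.aeval_X]
        rfl
    have hψ : Function.Surjective ψ := fun z => by
      obtain ⟨z, rfl⟩ := Ideal.Quotient.mk_surjective z
      obtain ⟨b, rfl⟩ := hφ z
      exact ⟨π b, hπψ b⟩
    haveI : FaithfulSMul (A ⧸ I.under A) (B ⧸ I) := (faithfulSMul_iff_algebraMap_injective _ _).mpr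
      (Unibranch.algebraMap_injective_quotient_under I)
    obtain ⟨h, t, hh, ht, hsum⟩ := DimFormula.exists_height_ker ψ hψ
    refine ⟨ψ, h, hψ, hh, ?_, hπψ⟩
    have := Unibranch.natCast_rdim (A := A) I
    rw [ht, Nat.cast_inj] at this
    omega
  obtain ⟨ψq, h₀, -, hh₀, hsum₀, hψq⟩ := key q
  obtain ⟨ψm, h₁, -, hh₁, hsum₁, hψm⟩ := key m
  let p := q.under A
  let P := m.under A
  have hpP : p ≤ P := Ideal.comap_mono hqm
  -- everything happens in `(A ⧸ p)[X]`
  let π : MvPolynomial (Fin n) A →+* MvPolynomial (Fin n) (A ⧸ p) := MvPolynomial.map (Ideal.Quotient.mk p)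
  have hπ : Function.Surjective π := MvPolynomial.map_surjective _ Ideal.Quotient.mk_surjective
  let σ : MvPolynomial (Fin n) (A ⧸ p) →+* MvPolynomial (Fin n) (A ⧸ P) :=
    MvPolynomial.map (Ideal.Quotient.factor hpP)
  have hσ : Function.Surjective σ := MvPolynomial.map_surjective _ (Ideal.Quotient.factor_surjective hpP)
  have hσπ : ∀ b, σ (π b) = MvPolynomial.map (Ideal.Quotient.mk P) b := fun b => by
    show MvPolynomial.map _ (MvPolynomial.map _ b) = _
    rw [MvPolynomial.map_map, Ideal.Quotient.factor_comp_mk]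
  let κ : MvPolynomial (Fin n) (A ⧸ p) →+* B ⧸ m := ψm.toRingHom.comp σ
  let Q : Ideal (MvPolynomial (Fin n) (A ⧸ p)) := RingHom.ker κ
  haveI : Q.IsPrime := RingHom.ker_isPrime _
  let Pb : Ideal (A ⧸ p) := P.map (Ideal.Quotient.mk p)
  haveI hPb : Pb.IsPrime := Ideal.map_isPrime_of_surjective Ideal.Quotient.mk_surjective
    (by rw [Ideal.mk_ker]; exact hpP)
  have hkerf : RingHom.ker (Ideal.Quotient.factor hpP) = Pb := by
    rw [Ideal.Quotient.factor_ker]
  haveI : Q.LiesOver Pb := ⟨by
    rw [← hkerf]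
    ext r
    show Ideal.Quotient.factor hpP r = 0 ↔ ψm (σ (MvPolynomial.C r)) = 0
    rw [MvPolynomial.map_C, ← MvPolynomial.algebraMap_eq, ψm.commutes, map_eq_zero_iff _
      (Unibranch.algebraMap_injective_quotient_under m)]⟩
  let I : Ideal (MvPolynomial (Fin n) (A ⧸ p)) := Pb.map (algebraMap _ (MvPolynomial (Fin n) (A ⧸ p)))
  have hker : RingHom.ker σ = I := by
    rw [MvPolynomial.ker_map, hkerf]
    rfl
  let e : (MvPolynomial (Fin n) (A ⧸ p) ⧸ I) ≃+* MvPolynomial (Fin n) (A ⧸ P) :=
    (Ideal.quotEquivOfEq hker.symm).trans (RingHom.quotientKerEquivOfSurjective hσ)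
  have he : (Q.map (Ideal.Quotient.mk I)).map e = RingHom.ker ψm.toRingHom := by
    rw [show (Q.map (Ideal.Quotient.mk I)).map e = Q.map σ from by
      rw [← Ideal.map_coe e, Ideal.map_map]
      congr 1]
    refine le_antisymm (Ideal.map_le_iff_le_comap.mpr fun b hb => hb) fun z hz => ?_
    obtain ⟨b, rfl⟩ := hσ z
    exact Ideal.mem_map_of_mem _ hz
  have h1 : Q.height = Pb.height + (h₁ : ℕ∞) := by
    rw [← hh₁, ← he]
    rw [RingEquiv.height_map (R := MvPolynomial (Fin n) (A ⧸ p) ⧸ I) (S := MvPolynomial (Fin n) (A ⧸ P)) e]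
    exact Ideal.height_eq_height_add_of_liesOver_of_hasGoingDown Pb Q
  haveI hm' : (m.map (Ideal.Quotient.mk q)).IsPrime := Ideal.map_isPrime_of_surjective
    Ideal.Quotient.mk_surjective (by rw [Ideal.mk_ker]; exact hqm)
  have hQ : ∀ b, π b ∈ Q ↔ φ b ∈ m := fun b => by
    show ψm (σ (π b)) = 0 ↔ _
    rw [hσπ, hψm, Ideal.Quotient.eq_zero_iff_mem]
  have hψqs : Function.Surjective ψq.toRingHom := fun z => by
    obtain ⟨z, rfl⟩ := Ideal.Quotient.mk_surjective z
    obtain ⟨b, rfl⟩ := hφ z
    exact ⟨π b, hψq b⟩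
  haveI : (RingHom.ker ψq.toRingHom).IsPrime := RingHom.ker_isPrime _
  have hle : RingHom.ker ψq.toRingHom ≤ Q := fun z hz => by
    obtain ⟨b, rfl⟩ := hπ z
    have hz' : ψq (π b) = 0 := hz
    rw [hψq, Ideal.Quotient.eq_zero_iff_mem] at hz'
    exact (hQ b).mpr (hqm hz')
  have h2 : (m.map (Ideal.Quotient.mk q)).height + (h₀ : ℕ∞) = Q.height := by
    rw [← hh₀, ← height_quotient_add_atPrime (RingHom.ker ψq.toRingHom) Q hle ?_]
    · congr 1
      let E := RingHom.quotientKerEquivOfSurjective (f := ψq.toRingHom) hψqs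
      rw [← RingEquiv.height_map (R := MvPolynomial (Fin n) (A ⧸ p) ⧸ RingHom.ker ψq.toRingHom) (S := B ⧸ q) E, ← Ideal.map_coe E, Ideal.map_map]
      refine congrArg Ideal.height (Eq.symm ?_)
      show Q.map ψq.toRingHom = m.map (Ideal.Quotient.mk q)
      refine le_antisymm (Ideal.map_le_iff_le_comap.mpr fun z hz => ?_) (Ideal.map_le_iff_le_comap.mpr fun z hz => ?_)
      · obtain ⟨b, rfl⟩ := hπ z
        show ψq (π b) ∈ m.map (Ideal.Quotient.mk q)
        rw [hψq]
        exact Ideal.mem_map_of_mem _ ((hQ b).mp hz)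
      · obtain ⟨b, rfl⟩ := hφ z
        rw [Ideal.mem_comap, ← hψq b]
        exact Ideal.mem_map_of_mem ψq.toRingHom ((hQ b).mpr hz)
    · -- the local ring is essentially of finite type over the local ring below
      let T := MvPolynomial (Fin n) (A ⧸ p)
      haveI : Algebra.FiniteType A (A ⧸ p) := Algebra.FiniteType.of_surjective (Ideal.Quotient.mkₐ A p) Ideal.Quotient.mk_surjective
      haveI : Algebra.FiniteType A T := Algebra.FiniteType.trans (R := A) (S := A ⧸ p) (A := T) ‹_› inferInstance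
      haveI : Algebra.EssFiniteType T (Localization.AtPrime Q) := Algebra.EssFiniteType.of_isLocalization _ Q.primeCompl
      haveI : Algebra.EssFiniteType A (Localization.AtPrime Q) := Algebra.EssFiniteType.comp A T _
      have hu : ∀ s : P.primeCompl, IsUnit (algebraMap A (Localization.AtPrime Q) s) := fun s => by
        rw [IsScalarTower.algebraMap_apply A T (Localization.AtPrime Q)]
        refine IsLocalization.map_units (M := Q.primeCompl) (Localization.AtPrime Q) ⟨_, fun hs => ?_⟩
        have h4 : π (algebraMap A _ (s : A)) ∈ Q := by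
          rw [show π (algebraMap A _ (s : A)) = algebraMap A T (s : A) from ?_]
          · exact hs
          · show MvPolynomial.map _ (MvPolynomial.C _) = _
            rw [MvPolynomial.map_C]
            rfl
        rw [hQ, φ.commutes] at h4
        exact s.2 h4
      letI : Algebra (Localization.AtPrime P) (Localization.AtPrime Q) := (IsLocalization.lift (M := P.primeCompl) hu).toAlgebra
      haveI : IsScalarTower A (Localization.AtPrime P) (Localization.AtPrime Q) :=
        IsScalarTower.of_algebraMap_eq fun x => (IsLocalization.lift_eq hu x).symm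
      haveI : Algebra.EssFiniteType (Localization.AtPrime P) (Localization.AtPrime Q) :=
        Algebra.EssFiniteType.of_comp A _ _
      exact isCatenary_of_isUniversallyCatenary (isUniversallyCatenary_of_essFiniteType hA)
  haveI : IsNoetherianRing (A ⧸ p) := inferInstance
  obtain ⟨c, hc⟩ := ENat.ne_top_iff_exists.mp (Pb.height_ne_top_of_isPrime)
  obtain ⟨a, ha⟩ := ENat.ne_top_iff_exists.mp ((m.map (Ideal.Quotient.mk q)).height_ne_top_of_isPrime)
  refine ⟨a, c, ha.symm, hc.symm, ?_⟩
  rw [← ha] at h2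
  rw [← hc] at h1
  have h3 : a + h₀ = c + h₁ := by exact_mod_cast h2.trans h1
  omega


/-- **The dimension formula.** -/
theorem dimension_formula {X Y : Scheme.{u}} [IsLocallyNoetherian Y] (f : X ⟶ Y) [LocallyOfFiniteType f] {ζ x : X}
    (hζx : ζ ⤳ x) (hcat : CAlg.IsUniversallyCatenary (Y.presheaf.stalk (f x)))
    {a c d e : ℕ} (ha : GenLE ζ x a) (hc : HasGen (f ζ) (f x) c)
    (hd : ChainsLE f (closure {x}) (f x) d) (he : HasChain f (closure {ζ}) (f ζ) e) :
    c + e ≤ a + d := by
  obtain ⟨V, W, hV, hW, hxW, hWV, -⟩ := exists_chart_le f (U := ⊤) (x := x) trivial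
  let := (f.appLE V W hWV).hom.toAlgebra
  have : Algebra.FiniteType Γ(Y, V) Γ(X, W) := f.finiteType_appLE hV hW hWV
  haveI : IsNoetherianRing Γ(Y, V) := IsLocallyNoetherian.component_noetherian ⟨V, hV⟩
  have hζW : ζ ∈ W := hζx.mem_open W.2 hxW
  let q := hW.primeIdealOf ⟨ζ, hζW⟩
  let m := hW.primeIdealOf ⟨x, hxW⟩
  have hqm : q.asIdeal ≤ m.asIdeal := (primeIdealOf_le_iff hW hζW hxW).mpr hζx
  have hfq : hV.fromSpec (PrimeSpectrum.comap (algebraMap Γ(Y, V) Γ(X, W)) q) = f ζ := by
    rw [RingHom.algebraMap_toAlgebra, fromSpec_comap_appLE f hV hW hWV, hW.fromSpec_primeIdealOf]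
  have hfm : hV.fromSpec (PrimeSpectrum.comap (algebraMap Γ(Y, V) Γ(X, W)) m) = f x := by
    rw [RingHom.algebraMap_toAlgebra, fromSpec_comap_appLE f hV hW hWV, hW.fromSpec_primeIdealOf]
  have hcat' : CAlg.IsUniversallyCatenary (Localization.AtPrime (m.asIdeal.under Γ(Y, V))) := by
    have e1 := (asIso (hV.fromSpec.stalkMap (PrimeSpectrum.comap (algebraMap Γ(Y, V) Γ(X, W)) m))).commRingCatIsoToRingEquiv.trans
      (StructureSheaf.stalkIso _ (PrimeSpectrum.comap (algebraMap Γ(Y, V) Γ(X, W)) m)).toRingEquiv.symm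
    refine isUniversallyCatenary_of_ringEquiv' e1 ?_
    rw [hfm]
    exact hcat
  obtain ⟨a', c', ha', hc', hineq⟩ :=
    exists_rel_dimension_formula (A := Γ(Y, V)) q.asIdeal m.asIdeal hqm hcat'
  have h1 : Unibranch.rdim Γ(Y, V) m.asIdeal ≤ d :=
    ((hasChain_rdimIn hV hW hWV hxW).mono Set.inter_subset_right).le hd
  have h2 : e ≤ Unibranch.rdim Γ(Y, V) q.asIdeal :=
    he.le (chainsLE_of_specializes f specializes_rfl hζW (chainsLE_rdimIn hV hW hWV hζW))
  have h3 : c ≤ c' := by
    obtain ⟨g, hg, hg0, hgl⟩ := hc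
    have hfxV : f x ∈ V := hWV hxW
    have hmem : ∀ i, g i ∈ V := fun i => (hgl ▸ specializes_last hg i).mem_open V.2 hfxV
    have := natCast_le_height_quotient (PrimeSpectrum.comap (algebraMap Γ(Y, V) Γ(X, W)) q)
      (PrimeSpectrum.comap (algebraMap Γ(Y, V) Γ(X, W)) m)
      ⟨c, fun i => hV.primeIdealOf ⟨g i, hmem i⟩, fun i => by
        refine lt_of_le_of_ne ((primeIdealOf_le_iff hV _ _).mpr (hg i).1) fun h ↦ (hg i).2 ?_
        have h1 := congrArg hV.fromSpec (PrimeSpectrum.ext h)
        exact (hV.fromSpec_primeIdealOf ⟨g _, hmem _⟩).symm.trans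
          (h1.trans (hV.fromSpec_primeIdealOf ⟨g _, hmem _⟩))⟩
      ((PrimeSpectrum.le_iff_specializes _ _).mpr (hV.fromSpec.isOpenEmbedding.isInducing.specializes_iff.mp
        (by
          rw [hfq]
          show f ζ ⤳ hV.fromSpec (hV.primeIdealOf ⟨g 0, hmem _⟩)
          rw [hV.fromSpec_primeIdealOf]
          exact hg0)))
      ((PrimeSpectrum.le_iff_specializes _ _).mpr (hV.fromSpec.isOpenEmbedding.isInducing.specializes_iff.mp
        (by
          rw [hfm]
          show hV.fromSpec (hV.primeIdealOf ⟨g (Fin.last c), hmem _⟩) ⤳ f x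
          rw [hV.fromSpec_primeIdealOf]
          exact specializes_of_eq hgl)))
    rw [show (m.asIdeal.under Γ(Y, V)) = (PrimeSpectrum.comap (algebraMap Γ(Y, V) Γ(X, W)) m).asIdeal from rfl,
      show (q.asIdeal.under Γ(Y, V)) = (PrimeSpectrum.comap (algebraMap Γ(Y, V) Γ(X, W)) q).asIdeal from rfl] at hc'
    rw [hc'] at this
    exact_mod_cast this
  have h4 : a' ≤ a := by
    haveI : IsNoetherianRing Γ(X, W) := Algebra.FiniteType.isNoetherianRing Γ(Y, V) Γ(X, W)
    haveI : (m.asIdeal.map (Ideal.Quotient.mk q.asIdeal)).IsPrime := Ideal.map_isPrime_of_surjective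
      Ideal.Quotient.mk_surjective (by rw [Ideal.mk_ker]; exact hqm)
    obtain ⟨l, hl, hlen⟩ := (m.asIdeal.map (Ideal.Quotient.mk q.asIdeal)).exists_ltSeries_length_eq_height
    rw [ha'] at hlen
    have hlen' : l.length = a' := by exact_mod_cast hlen
    rw [← hlen']
    have hmono := RingHom.strictMono_comap_of_surjective (Ideal.Quotient.mk_surjective (I := q.asIdeal))
    refine ha l.length (fun i => hW.fromSpec (PrimeSpectrum.comap (Ideal.Quotient.mk q.asIdeal) (l i)))
      (fun i => ⟨((PrimeSpectrum.le_iff_specializes _ _).mp (hmono.monotone (l.step i).le)).map hW.fromSpec.continuous,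
        fun h => (show l i.castSucc < l i.succ from l.step i).ne
          (PrimeSpectrum.comap_injective_of_surjective _ Ideal.Quotient.mk_surjective
            (hW.fromSpec.isOpenEmbedding.injective h))⟩) ?_ ?_
    · refine (specializes_of_eq (hW.fromSpec_primeIdealOf ⟨ζ, hζW⟩).symm).trans ?_
      refine ((PrimeSpectrum.le_iff_specializes _ _).mp ?_).map hW.fromSpec.continuous
      intro r hr
      rw [PrimeSpectrum.comap_asIdeal, Ideal.mem_comap, Ideal.Quotient.eq_zero_iff_mem.mpr hr]
      exact Ideal.zero_mem _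
    · refine Eq.trans ?_ (hW.fromSpec_primeIdealOf ⟨x, hxW⟩)
      refine congrArg hW.fromSpec (PrimeSpectrum.ext ?_)
      show (l.last.asIdeal).comap (Ideal.Quotient.mk q.asIdeal) = m.asIdeal
      rw [hl]
      show (m.asIdeal.map (Ideal.Quotient.mk q.asIdeal)).comap (Ideal.Quotient.mk q.asIdeal) = m.asIdeal
      rw [Ideal.comap_map_of_surjective _ Ideal.Quotient.mk_surjective, ← RingHom.ker_eq_comap_bot,
        Ideal.mk_ker, sup_eq_left.mpr hqm]
  omega

end Groth.Agent.Catenary
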