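import Groth.Agent.Catenary.Ring
import Groth.Agent.CMFlat.Quotient
import Groth.Agent.FibreDim.Basic
import Groth.Prelude.Def_EGA4b
import Mathlib.RingTheory.RingHom.Flat

/-!
# Catenary equidimensional local rings and flat local homomorphisms
-/

set_option autoImplicit false
set_option linter.style.haveILetI false
universe u

open IsLocalRing

namespace Groth.Agent.Catenary

/-- In a catenary local domain height and codimension add up. -/
theorem dim_domain_add {D : Type u} [CommRing D] [IsDomain D] [IsLocalRing D] [IsNoetherianRing D]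
    (hD : CAlg.IsCatenary D) (q : Ideal D) [q.IsPrime] :
    ringKrullDim (D ⧸ q) + (q.height : WithBot ℕ∞) = ringKrullDim D := by
  haveI : Nontrivial (D ⧸ q) := Ideal.Quotient.nontrivial_iff.mpr (Ideal.IsPrime.ne_top inferInstance)
  haveI : IsLocalRing (D ⧸ q) := IsLocalRing.of_surjective' _ Ideal.Quotient.mk_surjective
  have h := height_quotient_add hD q (maximalIdeal D) (le_maximalIdeal (Ideal.IsPrime.ne_top inferInstance))
  rw [← maximalIdeal_height_eq_ringKrullDim (R := D ⧸ q), ← maximalIdeal_height_eq_ringKrullDim (R := D),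
    ← WithBot.coe_add, ← map_maximalIdeal_of_surjective (Ideal.Quotient.mk q) Ideal.Quotient.mk_surjective, h]

/-- In an equidimensional catenary local ring height and codimension add up. -/
theorem dim_equidim_add {B : Type u} [CommRing B] [IsLocalRing B] [IsNoetherianRing B]
    (hB : CAlg.IsCatenary B) (heq : EGA4.IsEquidim B) (q : Ideal B) [q.IsPrime] :
    ringKrullDim (B ⧸ q) + (q.height : WithBot ℕ∞) = ringKrullDim B := by
  refine le_antisymm (CMFlat.ringKrullDim_quotient_add_le q) ?_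
  obtain ⟨P, hP, hPq⟩ := Ideal.exists_minimalPrimes_le (bot_le : (⊥ : Ideal B) ≤ q)
  haveI := hP.1.1
  let π := Ideal.Quotient.mk P
  haveI : Nontrivial (B ⧸ P) := Ideal.Quotient.nontrivial_iff.mpr hP.1.1.ne_top
  haveI : IsLocalRing (B ⧸ P) := IsLocalRing.of_surjective' _ Ideal.Quotient.mk_surjective
  haveI : (q.map π).IsPrime := Ideal.map_isPrime_of_surjective Ideal.Quotient.mk_surjective (by rwa [Ideal.mk_ker])
  have h := dim_domain_add (isCatenary_of_surjective π Ideal.Quotient.mk_surjective hB) (q.map π)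
  rw [heq P hP, ringKrullDim_eq_of_ringEquiv (DoubleQuot.quotQuotEquivQuotOfLE hPq)] at h
  refine h.ge.trans (add_le_add le_rfl (WithBot.coe_le_coe.mpr ?_))
  rw [(⟨q.map π, ‹_›⟩ : PrimeSpectrum (B ⧸ P)).height_eq_orderHeight, (⟨q, ‹_›⟩ : PrimeSpectrum B).height_eq_orderHeight]
  refine le_trans (Order.height_le_height_apply_of_strictMono _
    (RingHom.strictMono_comap_of_surjective (f := π) Ideal.Quotient.mk_surjective) _) (le_of_eq ?_)
  congr 1
  refine PrimeSpectrum.ext ?_
  show (q.map π).comap π = q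
  rw [Ideal.comap_map_of_surjective _ Ideal.Quotient.mk_surjective, ← RingHom.ker_eq_comap_bot, Ideal.mk_ker,
    sup_eq_left.mpr hPq]

/-- A quotient is equidimensional iff all its components have the same dimension. -/
theorem isEquidim_quotient_iff {R : Type u} [CommRing R] (I : Ideal R) :
    EGA4.IsEquidim (R ⧸ I) ↔ ∀ p ∈ I.minimalPrimes, ringKrullDim (R ⧸ p) = ringKrullDim (R ⧸ I) := by
  have e : ∀ P : Ideal (R ⧸ I), ringKrullDim ((R ⧸ I) ⧸ P) = ringKrullDim (R ⧸ P.comap (Ideal.Quotient.mk I)) := fun P =>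
    (ringKrullDim_eq_of_ringEquiv (RingHom.quotientKerEquivOfSurjective
      (f := (Ideal.Quotient.mk P).comp (Ideal.Quotient.mk I))
      (Ideal.Quotient.mk_surjective.comp Ideal.Quotient.mk_surjective))).symm.trans
      (ringKrullDim_eq_of_ringEquiv (Ideal.quotEquivOfEq (by rw [← RingHom.comap_ker, Ideal.mk_ker])))
  constructor
  · intro h p hp
    rw [Ideal.minimalPrimes_eq_comap] at hp
    obtain ⟨P, hP, rfl⟩ := hp
    rw [← e, h P hP]
  · intro h P hP
    rw [e, h _ (by rw [Ideal.minimalPrimes_eq_comap]; exact ⟨P, hP, rfl⟩)]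

variable {A B : Type u} [CommRing A] [CommRing B] [IsNoetherianRing A] [IsNoetherianRing B] [Algebra A B]
  [Module.Flat A B]

/-- Primes minimal over an extended prime. -/
theorem minimalPrimes_map_facts (p : Ideal A) [p.IsPrime] (P : Ideal B)
    (hP : P ∈ (p.map (algebraMap A B)).minimalPrimes) :
    P.comap (algebraMap A B) = p ∧ P.height = p.height := by
  haveI := hP.1.1
  have hle : p ≤ P.comap (algebraMap A B) := Ideal.map_le_iff_le_comap.mp hP.1.2
  haveI : P.LiesOver (P.comap (algebraMap A B)) := ⟨rfl⟩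
  obtain ⟨P', hP'le, hP', hP'p⟩ := Ideal.exists_ideal_le_liesOver_of_le (S := B) P hle
  obtain rfl : P' = P := le_antisymm hP'le (hP.2 ⟨hP', Ideal.map_le_iff_le_comap.mpr hP'p.over.le⟩ hP'le)
  refine ⟨hP'p.over.symm, ?_⟩
  have h := Ideal.height_eq_height_add_of_liesOver_of_hasGoingDown p P'
  rw [show (P'.map (Ideal.Quotient.mk (p.map (algebraMap A B)))).height = 0 from ?_, add_zero] at h
  · exact h
  · haveI : (P'.map (Ideal.Quotient.mk (p.map (algebraMap A B)))).IsPrime :=
      Ideal.map_isPrime_of_surjective Ideal.Quotient.mk_surjective (by rw [Ideal.mk_ker]; exact hP.1.2)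
    rw [Ideal.height_eq_zero_iff]
    have h2 := hP
    rw [Ideal.minimalPrimes_eq_comap] at h2
    obtain ⟨Q, hQ, hQe⟩ := h2
    rwa [← hQe, Ideal.map_comap_of_surjective _ Ideal.Quotient.mk_surjective]

variable [IsLocalRing A] [IsLocalRing B] [IsLocalHom (algebraMap A B)]

theorem map_le_maximal (p : Ideal A) [p.IsPrime] : p.map (algebraMap A B) ≤ maximalIdeal B :=
  (Ideal.map_mono (le_maximalIdeal (Ideal.IsPrime.ne_top inferInstance))).trans CMFlat.map_le

theorem exists_minimalPrime_over (p : Ideal A) [p.IsPrime] : ∃ P, P ∈ (p.map (algebraMap A B)).minimalPrimes := by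
  obtain ⟨P, hP, -⟩ := Ideal.exists_minimalPrimes_le (map_le_maximal (B := B) p)
  exact ⟨P, hP⟩

/-- Components of a fibre of a flat map into an equidimensional catenary ring. -/
theorem dim_component_add (hcat : CAlg.IsCatenary B) (heq : EGA4.IsEquidim B) (p : Ideal A) [p.IsPrime]
    (P : Ideal B) (hP : P ∈ (p.map (algebraMap A B)).minimalPrimes) :
    ringKrullDim (B ⧸ P) + (p.height : WithBot ℕ∞) = ringKrullDim B := by
  haveI := hP.1.1
  rw [← (minimalPrimes_map_facts p P hP).2]
  exact dim_equidim_add hcat heq P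

/-- The fibres of a flat map into an equidimensional catenary ring are equidimensional. -/
theorem isEquidim_fibre (hcat : CAlg.IsCatenary B) (heq : EGA4.IsEquidim B) (p : Ideal A) [p.IsPrime] :
    EGA4.IsEquidim (B ⧸ p.map (algebraMap A B)) := by
  rw [isEquidim_quotient_iff]
  intro P hP
  refine le_antisymm (ringKrullDim_le_of_surjective (Ideal.Quotient.factor hP.1.2)
    (Ideal.Quotient.factor_surjective hP.1.2)) (iSup_le fun l => ?_)
  let l' := l.map _ (RingHom.strictMono_comap_of_surjective (Ideal.Quotient.mk_surjective (I := p.map (algebraMap A B))))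
  have hge : p.map (algebraMap A B) ≤ l'.head.asIdeal := fun r hr => by
    rw [LTSeries.head_map, PrimeSpectrum.comap_asIdeal, Ideal.mem_comap, Ideal.Quotient.eq_zero_iff_mem.mpr hr]
    exact zero_mem _
  obtain ⟨Q, hQ, hQle⟩ := Ideal.exists_minimalPrimes_le hge
  haveI := hQ.1.1
  have hl : (l.length : WithBot ℕ∞) ≤ ringKrullDim (B ⧸ Q) := by
    rw [ringKrullDim_quotient]
    exact Order.le_krullDim_iff.mpr ⟨⟨l.length, fun i => ⟨l' i, hQle.trans (l'.monotone (Fin.zero_le i))⟩,
      fun i => l'.step i⟩, rfl⟩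
  have h1 := dim_component_add hcat heq p Q hQ
  have h2 := dim_component_add hcat heq p P hP
  obtain ⟨hp, hhp⟩ := ENat.ne_top_iff_exists.mp (p.height_ne_top_of_isPrime)
  rw [← hhp] at h1 h2
  refine le_trans (le_of_eq ?_) (hl.trans (ENat.WithBot.add_natCast_cancel.mp (h1.trans h2.symm)).le)
  rfl

/-- Equidimensional catenary rings descend along flat local homomorphisms. -/
theorem isEquidim_and_isCatenary_of_flat (hcat : CAlg.IsCatenary B) (heq : EGA4.IsEquidim B) :
    EGA4.IsEquidim A ∧ CAlg.IsCatenary A := by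
  constructor
  · intro p hp
    haveI := hp.1.1
    obtain ⟨P, hP⟩ := exists_minimalPrime_over (B := B) p
    haveI := hP.1.1
    refine le_antisymm (ringKrullDim_le_of_surjective _ Ideal.Quotient.mk_surjective) ?_
    have h1 := dim_component_add hcat heq p P hP
    rw [Ideal.height_eq_zero_iff.mpr hp, WithBot.coe_zero, add_zero] at h1
    let I := p.map (algebraMap A B)
    have hI : I ≤ maximalIdeal B := map_le_maximal p
    haveI : Nontrivial (A ⧸ p) := Ideal.Quotient.nontrivial_iff.mpr hp.1.1.ne_top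
    haveI : IsLocalRing (A ⧸ p) := IsLocalRing.of_surjective' _ Ideal.Quotient.mk_surjective
    haveI : Nontrivial (B ⧸ I) := Ideal.Quotient.nontrivial_iff.mpr fun e =>
      (maximalIdeal.isMaximal B).ne_top (top_le_iff.mp (e.ge.trans hI))
    haveI : IsLocalRing (B ⧸ I) := IsLocalRing.of_surjective' _ Ideal.Quotient.mk_surjective
    letI : Algebra (A ⧸ p) (B ⧸ I) := (Ideal.quotientMap I (algebraMap A B) Ideal.le_comap_map).toAlgebra
    haveI : IsLocalHom (algebraMap (A ⧸ p) (B ⧸ I)) := ⟨fun a ha => by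
      obtain ⟨a, rfl⟩ := Ideal.Quotient.mk_surjective a
      refine IsUnit.map _ ((isUnit_map_iff (algebraMap A B) a).mp ?_)
      exact ((IsLocalHom.of_surjective _ Ideal.Quotient.mk_surjective : IsLocalHom (Ideal.Quotient.mk I))).map_nonunit _ ha⟩
    let F := (maximalIdeal A).map (algebraMap A B)
    have hIF : I ≤ F := Ideal.map_mono (le_maximalIdeal hp.1.1.ne_top)
    have h2 := FibreDim.ringKrullDim_le_add_of_primes (R := A ⧸ p) (S := B ⧸ I) (T := B ⧸ F)
      (Ideal.Quotient.factor hIF) (Ideal.Quotient.factor_surjective hIF) (fun Q hQ => by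
        rw [range_comap_of_surjective _ _ (Ideal.Quotient.factor_surjective hIF), PrimeSpectrum.mem_zeroLocus,
          Ideal.Quotient.factor_ker]
        refine Ideal.map_le_iff_le_comap.mpr (Ideal.map_le_iff_le_comap.mpr fun a ha => hQ ?_)
        rw [← map_maximalIdeal_of_surjective (Ideal.Quotient.mk p) Ideal.Quotient.mk_surjective]
        exact Ideal.mem_map_of_mem (algebraMap (A ⧸ p) (B ⧸ I)) (Ideal.mem_map_of_mem _ ha))
    have h3 : ringKrullDim (B ⧸ P) ≤ ringKrullDim (B ⧸ I) :=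
      ringKrullDim_le_of_surjective (Ideal.Quotient.factor hP.1.2) (Ideal.Quotient.factor_surjective hP.1.2)
    rw [h1] at h3
    obtain ⟨c, e, hc, he, hce⟩ := CMFlat.dims (R := A) (S := B)
    obtain ⟨c', hc'⟩ := SerreReg.exists_dim_nat (A ⧸ p)
    have h4 := h3.trans h2
    rw [hce, hc', show ringKrullDim (B ⧸ F) = (e : WithBot ℕ∞) from he] at h4
    rw [hc, hc']
    have : c + e ≤ c' + e := by exact_mod_cast h4
    exact_mod_cast (show c ≤ c' by omega)
  · refine isCat_of_grade fun _ => ⟨fun a => a.asIdeal.height.toNat, fun a b hab _ => ?_, fun p q hpq _ => ?_⟩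
    · have h1 : a.asIdeal.height ≠ ⊤ := a.asIdeal.height_ne_top a.2.ne_top
      have h2 : b.asIdeal.height ≠ ⊤ := b.asIdeal.height_ne_top b.2.ne_top
      have h := Ideal.height_strict_mono_of_isPrime (J := b.asIdeal) (show a.asIdeal < b.asIdeal from hab)
      rw [← ENat.natCast_toNat h1, ← ENat.natCast_toNat h2, Nat.cast_lt] at h
      exact h
    obtain ⟨Q, hQ⟩ := exists_minimalPrime_over (B := B) q.asIdeal
    haveI := hQ.1.1
    obtain ⟨hQq, hQh⟩ := minimalPrimes_map_facts q.asIdeal Q hQ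
    obtain ⟨P, hP, hPQ⟩ := Ideal.exists_minimalPrimes_le (I := p.asIdeal.map (algebraMap A B)) (J := Q)
      ((Ideal.map_mono hpq.le).trans hQ.1.2)
    haveI := hP.1.1
    obtain ⟨hPp, hPh⟩ := minimalPrimes_map_facts p.asIdeal P hP
    obtain ⟨x, hxq, hxp⟩ := SetLike.exists_of_lt (show p.asIdeal < q.asIdeal from hpq.lt)
    have hxQ : algebraMap A B x ∈ Q := hQ.1.2 (Ideal.mem_map_of_mem _ hxq)
    have hmin : Q ∈ (P ⊔ Ideal.span {algebraMap A B x}).minimalPrimes := by
      refine ⟨⟨hQ.1.1, sup_le hPQ ((Ideal.span_singleton_le_iff_mem _).mpr hxQ)⟩, fun R hR hRQ => hQ.2 ⟨hR.1, ?_⟩ hRQ⟩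
      haveI := hR.1
      rw [Ideal.map_le_iff_le_comap]
      let r : PrimeSpectrum A := ⟨R.comap (algebraMap A B), Ideal.IsPrime.comap _⟩
      have hpr : p < r := by
        refine lt_of_le_of_ne (hPp.ge.trans (Ideal.comap_mono (le_sup_left.trans hR.2))) fun e => hxp ?_
        rw [e]
        exact hR.2 (Ideal.mem_sup_right (Ideal.mem_span_singleton_self _))
      have hrq : r ≤ q := (Ideal.comap_mono hRQ).trans hQq.le
      exact (eq_of_le_of_not_lt hrq fun h => hpq.2 hpr h).ge
    have hle1 := Ideal.map_height_le_one_of_mem_minimalPrimes hmin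
    let π := Ideal.Quotient.mk P
    haveI : Nontrivial (B ⧸ P) := Ideal.Quotient.nontrivial_iff.mpr hP.1.1.ne_top
    haveI : IsLocalRing (B ⧸ P) := IsLocalRing.of_surjective' _ Ideal.Quotient.mk_surjective
    haveI : (Q.map π).IsPrime := Ideal.map_isPrime_of_surjective Ideal.Quotient.mk_surjective (by rwa [Ideal.mk_ker])
    have h3 := dim_domain_add (isCatenary_of_surjective π Ideal.Quotient.mk_surjective hcat) (Q.map π)
    rw [ringKrullDim_eq_of_ringEquiv (DoubleQuot.quotQuotEquivQuotOfLE hPQ)] at h3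
    have h4 := dim_component_add hcat heq q.asIdeal Q hQ
    have h5 := dim_component_add hcat heq p.asIdeal P hP
    obtain ⟨a, ha⟩ := ENat.ne_top_iff_exists.mp (p.asIdeal.height_ne_top p.2.ne_top)
    obtain ⟨b, hb⟩ := ENat.ne_top_iff_exists.mp (q.asIdeal.height_ne_top q.2.ne_top)
    obtain ⟨k, hk⟩ := ENat.ne_top_iff_exists.mp ((Q.map π).height_ne_top_of_isPrime)
    obtain ⟨N, hN⟩ := SerreReg.exists_dim_nat B
    haveI : Nontrivial (B ⧸ Q) := Ideal.Quotient.nontrivial_iff.mpr hQ.1.1.ne_top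
    haveI : IsLocalRing (B ⧸ Q) := IsLocalRing.of_surjective' _ Ideal.Quotient.mk_surjective
    obtain ⟨dQ, hdQ⟩ := SerreReg.exists_dim_nat (B ⧸ Q)
    obtain ⟨dP, hdP⟩ := SerreReg.exists_dim_nat (B ⧸ P)
    rw [hdQ, hdP, ← hk] at h3
    rw [hdQ, ← hb, hN] at h4
    rw [hdP, ← ha, hN] at h5
    rw [← hk] at hle1
    have e3 : dQ + k = dP := by exact_mod_cast h3
    have e4 : dQ + b = N := by exact_mod_cast h4
    have e5 : dP + a = N := by exact_mod_cast h5
    have e6 : k ≤ 1 := by exact_mod_cast hle1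
    have hlt := Ideal.height_strict_mono_of_isPrime (J := q.asIdeal) (show p.asIdeal < q.asIdeal from hpq.lt)
    rw [← ha, ← hb, Nat.cast_lt] at hlt
    show q.asIdeal.height.toNat = p.asIdeal.height.toNat + 1
    rw [← ha, ← hb, ENat.toNat_natCast, ENat.toNat_natCast]
    omega

/-- Equidimensionality of quotients along a flat local map with zero-dimensional fibre. -/
theorem isEquidim_quotient_iff_of_flat (hcat : CAlg.IsCatenary B) (heq : EGA4.IsEquidim B)
    (h0 : ringKrullDim (B ⧸ (maximalIdeal A).map (algebraMap A B)) = 0) (a : Ideal A) :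
    EGA4.IsEquidim (B ⧸ a.map (algebraMap A B)) ↔ EGA4.IsEquidim (A ⧸ a) := by
  obtain ⟨hAeq, hAcat⟩ := isEquidim_and_isCatenary_of_flat (A := A) hcat heq
  obtain ⟨c, e, hc, he, hce⟩ := CMFlat.dims (R := A) (S := B)
  obtain rfl : e = 0 := by exact_mod_cast he.symm.trans h0
  rw [Nat.add_zero, ← hc] at hce
  have hdim : ∀ (p : Ideal A) [p.IsPrime] (P : Ideal B), P ∈ (p.map (algebraMap A B)).minimalPrimes →
      ringKrullDim (B ⧸ P) = ringKrullDim (A ⧸ p) := fun p _ P hP => by
    have h1 := dim_component_add hcat heq p P hP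
    rw [hce, ← dim_equidim_add hAcat hAeq p] at h1
    obtain ⟨k, hk⟩ := ENat.ne_top_iff_exists.mp (p.height_ne_top_of_isPrime)
    rw [← hk] at h1
    exact ENat.WithBot.add_natCast_cancel.mp h1
  have hmin : ∀ P ∈ (a.map (algebraMap A B)).minimalPrimes, ∃ p ∈ a.minimalPrimes,
      P ∈ (p.map (algebraMap A B)).minimalPrimes := fun P hP => by
    haveI := hP.1.1
    haveI : P.LiesOver (P.comap (algebraMap A B)) := ⟨rfl⟩
    obtain ⟨p, hp, hple⟩ := Ideal.exists_minimalPrimes_le (I := a) (J := P.comap (algebraMap A B))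
      (Ideal.map_le_iff_le_comap.mp hP.1.2)
    haveI := hp.1.1
    exact ⟨p, hp, ⟨hP.1.1, Ideal.map_le_iff_le_comap.mpr hple⟩,
      fun R hR hRP => hP.2 ⟨hR.1, (Ideal.map_mono hp.1.2).trans hR.2⟩ hRP⟩
  have hsup : ∀ {R : Type u} [CommRing R] (I : Ideal R) (D : WithBot ℕ∞),
      (∀ p ∈ I.minimalPrimes, ringKrullDim (R ⧸ p) ≤ D) → ringKrullDim (R ⧸ I) ≤ D := by
    intro R _ I D h
    refine iSup_le fun l => ?_
    let l' := l.map _ (RingHom.strictMono_comap_of_surjective (Ideal.Quotient.mk_surjective (I := I)))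
    have hge : I ≤ l'.head.asIdeal := fun r hr => by
      rw [LTSeries.head_map, PrimeSpectrum.comap_asIdeal, Ideal.mem_comap, Ideal.Quotient.eq_zero_iff_mem.mpr hr]
      exact zero_mem _
    obtain ⟨Q, hQ, hQle⟩ := Ideal.exists_minimalPrimes_le hge
    refine le_trans ?_ (h Q hQ)
    rw [ringKrullDim_quotient]
    exact Order.le_krullDim_iff.mpr ⟨⟨l.length, fun i => ⟨l' i, hQle.trans (l'.monotone (Fin.zero_le i))⟩,
      fun i => l'.step i⟩, rfl⟩
  have hex : ∀ p ∈ a.minimalPrimes, ∃ P ∈ (a.map (algebraMap A B)).minimalPrimes, ∀ (_ : p.IsPrime),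
      ringKrullDim (B ⧸ P) = ringKrullDim (A ⧸ p) := fun p hp => by
    haveI := hp.1.1
    obtain ⟨P, hP⟩ := exists_minimalPrime_over (B := B) p
    haveI := hP.1.1
    obtain ⟨hPp, -⟩ := minimalPrimes_map_facts p P hP
    refine ⟨P, ⟨⟨hP.1.1, (Ideal.map_mono hp.1.2).trans hP.1.2⟩, fun R hR hRP => hP.2 ⟨hR.1, ?_⟩ hRP⟩, fun _ => hdim p P hP⟩
    haveI := hR.1
    refine Ideal.map_le_iff_le_comap.mpr (hp.2 ⟨Ideal.IsPrime.comap _, Ideal.map_le_iff_le_comap.mp hR.2⟩ ?_)
    exact (Ideal.comap_mono hRP).trans hPp.le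
  rw [isEquidim_quotient_iff, isEquidim_quotient_iff]
  constructor
  · intro h p hp
    haveI := hp.1.1
    refine le_antisymm (ringKrullDim_le_of_surjective (Ideal.Quotient.factor hp.1.2)
      (Ideal.Quotient.factor_surjective hp.1.2)) (hsup a _ fun q hq => ?_)
    haveI := hq.1.1
    obtain ⟨P, hP, hPd⟩ := hex p hp
    obtain ⟨Q, hQ, hQd⟩ := hex q hq
    rw [← hPd inferInstance, ← hQd inferInstance, h P hP, h Q hQ]
  · intro h P hP
    obtain ⟨p, hp, hPp⟩ := hmin P hP
    haveI := hp.1.1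
    refine le_antisymm (ringKrullDim_le_of_surjective (Ideal.Quotient.factor hP.1.2)
      (Ideal.Quotient.factor_surjective hP.1.2)) (hsup _ _ fun Q hQ => ?_)
    obtain ⟨q, hq, hQq⟩ := hmin Q hQ
    haveI := hq.1.1
    rw [hdim p P hPp, hdim q Q hQq, h p hp, h q hq]

end Groth.Agent.Catenary
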