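import Mathlib.Order.KrullDimension
import Mathlib.Order.Cover

/-!
# Catenary partial orders
-/

set_option autoImplicit false
universe u v

namespace Groth.Agent.Catenary

/-- Bounded chains between comparable elements and equal lengths of saturated ones. -/
def IsCat (α : Type u) [Preorder α] : Prop :=
  (∀ p q : α, p ≤ q → ∃ n : ℕ, ∀ s : LTSeries α, s.head = p → s.last = q → s.length ≤ n) ∧
  ∀ s t : LTSeries α, s.head = t.head → s.last = t.last →
    (∀ i : Fin s.length, s (Fin.castSucc i) ⋖ s (Fin.succ i)) →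
    (∀ i : Fin t.length, t (Fin.castSucc i) ⋖ t (Fin.succ i)) →
    s.length = t.length

/-- A saturated chain. -/
def Sat {α : Type u} [Preorder α] (s : LTSeries α) : Prop :=
  ∀ i : Fin s.length, s (Fin.castSucc i) ⋖ s (Fin.succ i)

variable {α : Type u} {β : Type v} [PartialOrder α] [PartialOrder β]

theorem head_le (s : LTSeries α) (i : Fin (s.length + 1)) : s.head ≤ s i :=
  s.monotone (Fin.zero_le i)

theorem le_last (s : LTSeries α) (i : Fin (s.length + 1)) : s i ≤ s.last :=
  s.monotone (Fin.le_last i)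

/-- A chain of maximal length between its ends is saturated. -/
theorem sat_of_maximal (s : LTSeries α)
    (h : ∀ t : LTSeries α, t.head = s.head → t.last = s.last → t.length ≤ s.length) : Sat s := by
  refine fun i => ⟨s.step i, fun a h1 h2 => ?_⟩
  have h3 := h (s.insertNth i a h1 h2) ?_ ?_
  · simp at h3
  · show Fin.insertNth (α := fun _ => α) (Fin.castSucc i.succ) a s 0 = s 0
    rw [Fin.insertNth_apply_below (by simp [Fin.lt_def])]
    simp
  · show Fin.insertNth (α := fun _ => α) (Fin.castSucc i.succ) a s (Fin.last _) = s (Fin.last _)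
    rw [Fin.insertNth_apply_above (by simp [Fin.lt_def])]
    simp
    congr 1

theorem exists_sat (h : IsCat α) {p q : α} (hpq : p ≤ q) :
    ∃ s : LTSeries α, s.head = p ∧ s.last = q ∧ Sat s ∧
      ∀ t : LTSeries α, t.head = p → t.last = q → t.length ≤ s.length := by
  classical
  obtain ⟨n, hn⟩ := h.1 p q hpq
  have h0 : ∃ k, ∃ s : LTSeries α, s.head = p ∧ s.last = q ∧ s.length = k := by
    rcases eq_or_lt_of_le hpq with rfl | hlt
    · exact ⟨0, RelSeries.singleton _ p, rfl, rfl, rfl⟩
    · exact ⟨1, (RelSeries.singleton _ p).snoc q hlt, by simp, by simp, by simp⟩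
  obtain ⟨k, hk⟩ := h0
  have hkn : k ≤ n := by obtain ⟨s, h1, h2, rfl⟩ := hk; exact hn s h1 h2
  obtain ⟨s, h1, h2, hl⟩ := Nat.findGreatest_spec (P := fun k => ∃ s : LTSeries α, s.head = p ∧ s.last = q ∧ s.length = k)
    hkn hk
  have hmax : ∀ t : LTSeries α, t.head = p → t.last = q → t.length ≤ s.length := fun t ht1 ht2 => by
    rw [hl]
    exact Nat.le_findGreatest (hn t ht1 ht2) ⟨t, ht1, ht2, rfl⟩
  exact ⟨s, h1, h2, sat_of_maximal s (fun t ht1 ht2 => hmax t (ht1.trans h1) (ht2.trans h2)), hmax⟩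

/-- In a catenary order every saturated chain has maximal length. -/
theorem length_le_of_sat (h : IsCat α) {s t : LTSeries α} (hs : Sat s) (h1 : t.head = s.head)
    (h2 : t.last = s.last) : t.length ≤ s.length := by
  obtain ⟨r, hr1, hr2, hr, hmax⟩ := exists_sat h (le_last s 0)
  rw [h.2 s r hr1.symm hr2.symm hs hr]
  exact hmax t h1 h2

theorem Sat.smash {s t : LTSeries α} (hs : Sat s) (ht : Sat t) (h : s.last = t.head) :
    Sat (RelSeries.smash s t h) := by
  refine fun i => Fin.addCases (fun j => ?_) (fun j => ?_) i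
  · erw [RelSeries.smash_castAdd, RelSeries.smash_succ_castAdd]
    exact hs j
  · erw [RelSeries.smash_natAdd, RelSeries.smash_succ_natAdd]
    exact ht j

/-- A grading on each lower set: rising by exactly one along covering relations. -/
theorem isCat_of_grade (h : ∀ q : α, ∃ g : α → ℕ, (∀ a b, a < b → b ≤ q → g a < g b) ∧
    (∀ a b, a ⋖ b → b ≤ q → g b = g a + 1)) : IsCat α := by
  refine ⟨fun p q _ => ?_, fun s t hst hlast hs ht => ?_⟩
  · obtain ⟨g, hg, -⟩ := h q
    refine ⟨g q, fun s _ hq => ?_⟩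
    have : ∀ i : Fin (s.length + 1), (i : ℕ) ≤ g (s i) := by
      intro i
      induction i using Fin.induction with
      | zero => simp
      | succ i ih =>
        have := hg _ _ (s.step i) (hq ▸ le_last s i.succ)
        simp only [Fin.val_castSucc] at ih
        simp only [Fin.val_succ]
        omega
    have := this (Fin.last _)
    rwa [← RelSeries.last, hq] at this
  · obtain ⟨g, -, hg⟩ := h s.last
    have key : ∀ (r : LTSeries α), r.last = s.last → Sat r → g r.last = g r.head + r.length := by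
      intro r hr hsat
      have : ∀ i : Fin (r.length + 1), g (r i) = g r.head + i := by
        intro i
        induction i using Fin.induction with
        | zero => simp [RelSeries.head]
        | succ i ih =>
          rw [hg _ _ (hsat i) (hr ▸ le_last r i.succ), ih]
          simp [add_assoc]
      exact this (Fin.last _)
    have h1 := key s rfl hs
    have h2 := key t hlast.symm ht
    rw [← hlast, ← hst] at h2
    omega

/-- Catenarity pulls back along order embeddings with convex image. -/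
theorem isCat_of_orderEmbedding (e : β ↪o α) (hconv : ∀ b₁ b₂ a, e b₁ ≤ a → a ≤ e b₂ → a ∈ Set.range e)
    (h : IsCat α) : IsCat β := by
  refine ⟨fun p q hpq => ?_, fun s t hst hlast hs ht => ?_⟩
  · obtain ⟨n, hn⟩ := h.1 (e p) (e q) (e.monotone hpq)
    exact ⟨n, fun s hp hq => hn (s.map e e.strictMono) (by simp [hp]) (by simp [hq])⟩
  · have key : ∀ r : LTSeries β, Sat r → Sat (r.map e e.strictMono) := fun r hr i =>
      ⟨(r.map e e.strictMono).step i, fun a h1 h2 => by
        obtain ⟨b, rfl⟩ := hconv _ _ a h1.le h2.le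
        exact (hr i).2 (e.lt_iff_lt.mp h1) (e.lt_iff_lt.mp h2)⟩
    exact h.2 (s.map e e.strictMono) (t.map e e.strictMono) (by simp [hst]) (by simp [hlast]) (key s hs) (key t ht)

/-- Catenarity is checked on a family of convex pieces containing every interval. -/
theorem isCat_of_cover (h : ∀ p q : α, p ≤ q → ∃ (S : Set α), S.OrdConnected ∧ p ∈ S ∧ q ∈ S ∧ IsCat S) : IsCat α := by
  have lift : ∀ (r : LTSeries α) (S : Set α), S.OrdConnected → r.head ∈ S → r.last ∈ S →
      ∃ r' : LTSeries S, r'.length = r.length ∧ (r'.head : α) = r.head ∧ (r'.last : α) = r.last ∧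
        (Sat r → Sat r') := by
    intro r S hS h1 h2
    have hm : ∀ i, r i ∈ S := fun i => hS.out h1 h2 ⟨head_le r i, le_last r i⟩
    refine ⟨⟨r.length, fun i => ⟨r i, hm i⟩, fun i => r.step i⟩, rfl, rfl, rfl, fun hr i => ?_⟩
    exact ⟨r.step i, fun a ha1 ha2 => (hr i).2 (c := a.1) ha1 ha2⟩
  refine ⟨fun p q hpq => ?_, fun s t hst hlast hs ht => ?_⟩
  · obtain ⟨S, hS, hp, hq, hc⟩ := h p q hpq
    obtain ⟨n, hn⟩ := hc.1 ⟨p, hp⟩ ⟨q, hq⟩ hpq
    refine ⟨n, fun s h1 h2 => ?_⟩
    obtain ⟨r, hr, hr1, hr2, -⟩ := lift s S hS (h1 ▸ hp) (h2 ▸ hq)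
    exact hr ▸ hn r (Subtype.ext (hr1.trans h1)) (Subtype.ext (hr2.trans h2))
  · obtain ⟨S, hS, hp, hq, hc⟩ := h s.head s.last (le_last s 0)
    obtain ⟨s', h1, h1a, h1b, h1s⟩ := lift s S hS hp hq
    obtain ⟨t', h2, h2a, h2b, h2s⟩ := lift t S hS (hst ▸ hp) (hlast ▸ hq)
    rw [← h1, ← h2]
    exact hc.2 s' t' (Subtype.ext (by rw [h1a, h2a, hst])) (Subtype.ext (by rw [h1b, h2b, hlast])) (h1s hs) (h2s ht)

/-- In a catenary order with a least element, heights add along intervals. -/
theorem height_le_coe_of_isCat [OrderBot α] (h : IsCat α) (q : α) :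
    ∃ n : ℕ, Order.height q = n ∧ ∀ s : LTSeries α, s.head = ⊥ → s.last = q → Sat s → s.length = n := by
  obtain ⟨s, h1, h2, hs, hmax⟩ := exists_sat h (bot_le : ⊥ ≤ q)
  refine ⟨s.length, le_antisymm (Order.height_le fun t ht => ?_) ?_, fun t ht1 ht2 ht => ?_⟩
  · by_cases hb : t.head = ⊥
    · exact_mod_cast hmax t hb ht
    · have := hmax (t.cons ⊥ (bot_lt_iff_ne_bot.mpr hb)) (by simp) (by simp [ht])
      rw [RelSeries.cons_length] at this
      exact_mod_cast (Nat.le_succ _).trans this
  · exact h2 ▸ Order.length_le_height_last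
  · exact h.2 t s (ht1.trans h1.symm) (ht2.trans h2.symm) ht hs

/-- The height grows along a saturated chain by its length. -/
theorem height_add_length [OrderBot α] (h : IsCat α) {s : LTSeries α} (hs : Sat s) :
    Order.height s.last = Order.height s.head + s.length := by
  obtain ⟨n, hn, hn'⟩ := height_le_coe_of_isCat h s.head
  obtain ⟨m, hm, hm'⟩ := height_le_coe_of_isCat h s.last
  obtain ⟨r, hr1, hr2, hr, -⟩ := exists_sat h (bot_le : ⊥ ≤ s.head)
  have := hm' (RelSeries.smash r s hr2) (by simp [hr1]) (by simp) (hr.smash hs hr2)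
  rw [hm, hn, ← this, RelSeries.smash_length, hn' r hr1 hr2 hr, Nat.cast_add]

end Groth.Agent.Catenary

namespace Groth.Agent.Catenary

variable {α : Type u} [PartialOrder α] [OrderBot α]

/-- Heights inside an initial segment. -/
theorem height_Iic {Q : α} (x : Set.Iic Q) : Order.height x = Order.height x.1 := by
  refine le_antisymm (Order.height_le_height_apply_of_strictMono Subtype.val (fun _ _ h => h) x) ?_
  refine Order.height_le fun s hs => ?_
  have hm : ∀ i, s i ≤ Q := fun i => (le_last s i).trans (hs ▸ x.2)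
  let s' : LTSeries (Set.Iic Q) := ⟨s.length, fun i => ⟨s i, hm i⟩, fun i => s.step i⟩
  exact Order.length_le_height (p := s') (le_of_eq (Subtype.ext hs))

/-- Heights add through an embedding onto an upper segment, below a catenary point. -/
theorem height_embedding {β : Type v} [PartialOrder β] [OrderBot β] (e : β ↪o α)
    (hconv : ∀ a, e ⊥ ≤ a → a ∈ Set.range e) (B : β) (h : IsCat (Set.Iic (e B))) :
    Order.height (e B) = Order.height B + Order.height (e ⊥) := by
  let e' : Set.Iic B ↪o Set.Iic (e B) :=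
    OrderEmbedding.ofMapLEIff (fun b => ⟨e b.1, e.monotone b.2⟩) fun _ _ => e.le_iff_le
  have hconv' : ∀ a, e' ⊥ ≤ a → a ∈ Set.range e' := fun a ha => by
    obtain ⟨b, hb⟩ := hconv a.1 ha
    exact ⟨⟨b, e.le_iff_le.mp (hb.le.trans a.2)⟩, Subtype.ext hb⟩
  have h' : IsCat (Set.Iic B) := isCat_of_orderEmbedding e'
    (fun b₁ _ a ha _ => hconv' a ((e'.monotone bot_le).trans ha)) h
  obtain ⟨n, hn, hn'⟩ := height_le_coe_of_isCat h' ⟨B, Set.self_mem_Iic⟩
  obtain ⟨s, h1, h2, hs, -⟩ := exists_sat h' (bot_le : ⊥ ≤ (⟨B, Set.self_mem_Iic⟩ : Set.Iic B))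
  have hs' : Sat (s.map e' e'.strictMono) := fun i =>
    ⟨(s.map e' e'.strictMono).step i, fun a ha1 ha2 => by
      obtain ⟨b, rfl⟩ := hconv' a ((e'.monotone bot_le).trans ha1.le)
      exact (hs i).2 (e'.lt_iff_lt.mp ha1) (e'.lt_iff_lt.mp ha2)⟩
  have h3 := height_add_length h hs'
  rw [LTSeries.head_map, LTSeries.last_map, h1, h2, LTSeries.map_length, hn' s h1 h2 hs, ← hn,
    height_Iic, height_Iic, height_Iic] at h3
  rw [add_comm]
  exact h3

end Groth.Agent.Catenary
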