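import Groth.Prelude.Def_Found
import Groth.Agent.Catenary.Order
import Mathlib.RingTheory.Spectrum.Prime.Topology
import Mathlib.RingTheory.Ideal.KrullsHeightTheorem
import Mathlib.RingTheory.EssentialFiniteness
import Mathlib.RingTheory.Localization.Finiteness
import Mathlib.RingTheory.MvPolynomial.Localization

/-!
# Catenary and universally catenary rings
-/

set_option autoImplicit false
set_option linter.style.haveILetI false
universe u

open scoped TensorProduct

namespace Groth.Agent.Catenary

theorem isCatenary_iff {R : Type u} [CommRing R] : CAlg.IsCatenary R ↔ IsCat (PrimeSpectrum R) := Iff.rfl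

/-- The spectrum of a localization as a piece of the spectrum. -/
noncomputable def localizationEmbedding {A : Type u} [CommRing A] (S : Submonoid A) (B : Type u) [CommRing B]
    [Algebra A B] [IsLocalization S B] : PrimeSpectrum B ↪o PrimeSpectrum A where
  toFun := PrimeSpectrum.comap (algebraMap A B)
  inj' := PrimeSpectrum.localization_comap_injective B S
  map_rel_iff' {a b} := ⟨fun h => by
    have := Ideal.map_mono (f := algebraMap A B) (show a.asIdeal.comap (algebraMap A B) ≤ b.asIdeal.comap _ from h)
    rwa [IsLocalization.map_comap S, IsLocalization.map_comap S] at this,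
    fun h => Ideal.comap_mono h⟩

theorem range_localizationEmbedding {A : Type u} [CommRing A] (S : Submonoid A) (B : Type u) [CommRing B]
    [Algebra A B] [IsLocalization S B] :
    Set.range (localizationEmbedding S B) = {p : PrimeSpectrum A | Disjoint (S : Set A) p.asIdeal} :=
  PrimeSpectrum.localization_comap_range B S

theorem isCatenary_of_isLocalization {A : Type u} [CommRing A] (S : Submonoid A) (B : Type u) [CommRing B]
    [Algebra A B] [IsLocalization S B] (hA : CAlg.IsCatenary A) : CAlg.IsCatenary B := by
  refine isCat_of_orderEmbedding (localizationEmbedding S B) (fun b₁ b₂ a _ h => ?_) hA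
  have h2 := (range_localizationEmbedding S B).le ⟨b₂, rfl⟩
  rw [range_localizationEmbedding]
  exact Set.disjoint_of_subset_right h h2

/-- The spectrum of a quotient as a piece of the spectrum. -/
noncomputable def surjectiveEmbedding {A B : Type u} [CommRing A] [CommRing B] (f : A →+* B)
    (hf : Function.Surjective f) : PrimeSpectrum B ↪o PrimeSpectrum A where
  toFun := PrimeSpectrum.comap f
  inj' := PrimeSpectrum.comap_injective_of_surjective f hf
  map_rel_iff' := Ideal.comap_le_comap_iff_of_surjective _ hf _ _

theorem range_surjectiveEmbedding {A B : Type u} [CommRing A] [CommRing B] (f : A →+* B)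
    (hf : Function.Surjective f) :
    Set.range (surjectiveEmbedding f hf) = {p : PrimeSpectrum A | RingHom.ker f ≤ p.asIdeal} := by
  rw [show ⇑(surjectiveEmbedding f hf) = PrimeSpectrum.comap f from rfl,
    range_comap_of_surjective _ _ hf]
  rfl

theorem isCatenary_of_surjective {A B : Type u} [CommRing A] [CommRing B] (f : A →+* B)
    (hf : Function.Surjective f) (hA : CAlg.IsCatenary A) : CAlg.IsCatenary B := by
  refine isCat_of_orderEmbedding (surjectiveEmbedding f hf) (fun b₁ b₂ a h _ => ?_) hA
  have h1 := (range_surjectiveEmbedding f hf).le ⟨b₁, rfl⟩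
  rw [range_surjectiveEmbedding]
  exact le_trans (show RingHom.ker f ≤ ((surjectiveEmbedding f hf) b₁).asIdeal from h1) h

theorem isCatenary_of_ringEquiv {A B : Type u} [CommRing A] [CommRing B] (e : A ≃+* B)
    (hA : CAlg.IsCatenary A) : CAlg.IsCatenary B :=
  isCatenary_of_surjective e.toRingHom e.surjective hA

/-- Catenarity of the image of an embedding. -/
theorem isCat_range {α β : Type u} [PartialOrder α] [PartialOrder β] (e : β ↪o α) (h : IsCat β) :
    IsCat (Set.range e) :=
  isCat_of_orderEmbedding (OrderEmbedding.orderIso (f := e)).symm.toOrderEmbedding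
    (fun _ _ a _ _ => ⟨(OrderEmbedding.orderIso (f := e)) a, OrderIso.symm_apply_apply _ a⟩) h

theorem isCatenary_of_forall_minimalPrimes {R : Type u} [CommRing R]
    (h : ∀ p ∈ minimalPrimes R, CAlg.IsCatenary (R ⧸ p)) : CAlg.IsCatenary R := by
  refine isCat_of_cover fun p q hpq => ?_
  obtain ⟨P, hP, hPp⟩ := Ideal.exists_minimalPrimes_le (I := (⊥ : Ideal R)) (J := p.asIdeal) bot_le
  refine ⟨_, ?_, ?_, ?_, isCat_range (surjectiveEmbedding (Ideal.Quotient.mk P) Ideal.Quotient.mk_surjective) (h P hP)⟩
  all_goals rw [range_surjectiveEmbedding, Ideal.mk_ker]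
  · exact ⟨fun a ha b _ c hc => show P ≤ c.asIdeal from le_trans (show P ≤ a.asIdeal from ha) hc.1⟩
  · exact hPp
  · exact le_trans hPp hpq

theorem isCatenary_of_forall_maximal {R : Type u} [CommRing R]
    (h : ∀ (m : Ideal R) [m.IsMaximal], CAlg.IsCatenary (Localization.AtPrime m)) : CAlg.IsCatenary R := by
  refine isCat_of_cover fun p q hpq => ?_
  obtain ⟨m, hm, hqm⟩ := q.asIdeal.exists_le_maximal q.2.ne_top
  refine ⟨_, ?_, ?_, ?_, isCat_range (localizationEmbedding m.primeCompl (Localization.AtPrime m)) (h m)⟩
  all_goals rw [range_localizationEmbedding]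
  · exact ⟨fun a _ b hb c hc => Set.disjoint_of_subset_right hc.2 hb⟩
  · exact Set.disjoint_left.mpr fun x hx hxp => hx (hqm (hpq hxp))
  · exact Set.disjoint_left.mpr fun x hx hxq => hx (hqm hxq)

/-- Universal catenarity is checked on polynomial algebras. -/
theorem isUniversallyCatenary_of_polynomial {A : Type u} [CommRing A] [IsNoetherianRing A]
    (h : ∀ n : ℕ, CAlg.IsCatenary (MvPolynomial (Fin n) A)) : CAlg.IsUniversallyCatenary A := by
  refine ⟨inferInstance, fun S _ _ hS => ?_⟩
  obtain ⟨n, f, hf⟩ := Algebra.FiniteType.iff_quotient_mvPolynomial''.mp hS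
  exact isCatenary_of_surjective f.toRingHom hf (h n)

theorem isCatenary_of_isUniversallyCatenary {A : Type u} [CommRing A] (hA : CAlg.IsUniversallyCatenary A) :
    CAlg.IsCatenary A :=
  hA.2 A inferInstance

theorem isUniversallyCatenary_of_finiteType {A B : Type u} [CommRing A] [CommRing B] [Algebra A B]
    [Algebra.FiniteType A B] (hA : CAlg.IsUniversallyCatenary A) : CAlg.IsUniversallyCatenary B := by
  haveI := hA.1
  refine ⟨Algebra.FiniteType.isNoetherianRing A B, fun S _ _ hS => ?_⟩
  letI := ((algebraMap B S).comp (algebraMap A B)).toAlgebra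
  haveI : IsScalarTower A B S := IsScalarTower.of_algebraMap_eq fun _ => rfl
  exact hA.2 S (Algebra.FiniteType.trans ‹_› hS)

theorem isUniversallyCatenary_of_isLocalization {A : Type u} [CommRing A] (S : Submonoid A) (B : Type u)
    [CommRing B] [Algebra A B] [IsLocalization S B] (hA : CAlg.IsUniversallyCatenary A) :
    CAlg.IsUniversallyCatenary B := by
  haveI := hA.1
  haveI : IsNoetherianRing B := IsLocalization.isNoetherianRing S B inferInstance
  refine isUniversallyCatenary_of_polynomial fun n => ?_
  letI : Algebra (MvPolynomial (Fin n) A) (MvPolynomial (Fin n) B) :=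
    (MvPolynomial.map (algebraMap A B)).toAlgebra
  haveI : IsLocalization (S.map (MvPolynomial.C : A →+* MvPolynomial (Fin n) A)) (MvPolynomial (Fin n) B) :=
    MvPolynomial.isLocalization S B
  exact isCatenary_of_isLocalization (S.map (MvPolynomial.C : A →+* MvPolynomial (Fin n) A)) _
    (hA.2 _ inferInstance)

theorem isUniversallyCatenary_of_essFiniteType {A B : Type u} [CommRing A] [CommRing B] [Algebra A B]
    [Algebra.EssFiniteType A B] (hA : CAlg.IsUniversallyCatenary A) : CAlg.IsUniversallyCatenary B :=
  isUniversallyCatenary_of_isLocalization (Algebra.EssFiniteType.submonoid A B) B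
    (isUniversallyCatenary_of_finiteType (B := Algebra.EssFiniteType.subalgebra A B) hA)

theorem isUniversallyCatenary_of_forall_maximal {R : Type u} [CommRing R] [IsNoetherianRing R]
    (h : ∀ (m : Ideal R) [m.IsMaximal], CAlg.IsUniversallyCatenary (Localization.AtPrime m)) :
    CAlg.IsUniversallyCatenary R := by
  refine isUniversallyCatenary_of_polynomial fun n => isCatenary_of_forall_maximal fun N _ => ?_
  obtain ⟨m, hm, hle⟩ := (N.comap (MvPolynomial.C : R →+* MvPolynomial (Fin n) R)).exists_le_maximal
    (Ideal.IsPrime.comap _).ne_top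
  let T := MvPolynomial (Fin n) R
  let T' := MvPolynomial (Fin n) (Localization.AtPrime m)
  letI : Algebra T T' := (MvPolynomial.map (algebraMap R (Localization.AtPrime m))).toAlgebra
  let M : Submonoid T := m.primeCompl.map (MvPolynomial.C : R →+* T)
  haveI : IsLocalization M T' := MvPolynomial.isLocalization m.primeCompl _
  have hM : M ≤ N.primeCompl := by
    rintro _ ⟨r, hr, rfl⟩ hrN
    exact hr (hle hrN)
  letI : Algebra T' (Localization.AtPrime N) := (IsLocalization.lift (M := M) (S := T')
    (g := algebraMap T (Localization.AtPrime N)) fun y => IsLocalization.map_units _ ⟨y.1, hM y.2⟩).toAlgebra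
  haveI : IsScalarTower T T' (Localization.AtPrime N) :=
    IsScalarTower.of_algebraMap_eq fun x => (IsLocalization.lift_eq _ x).symm
  haveI := IsLocalization.isLocalization_of_submonoid_le T' (Localization.AtPrime N) M N.primeCompl hM
  exact isCatenary_of_isLocalization (N.primeCompl.map (algebraMap T T')) _ ((h m).2 T' inferInstance)

/-- In a catenary domain heights add along quotients. -/
theorem height_quotient_add {T : Type u} [CommRing T] [IsDomain T] (hT : CAlg.IsCatenary T)
    (p q : Ideal T) [p.IsPrime] [q.IsPrime] (hpq : p ≤ q) :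
    (q.map (Ideal.Quotient.mk p)).height + p.height = q.height := by
  haveI : (q.map (Ideal.Quotient.mk p)).IsPrime :=
    Ideal.map_isPrime_of_surjective Ideal.Quotient.mk_surjective (by rwa [Ideal.mk_ker])
  let P : PrimeSpectrum T := ⟨p, ‹_›⟩
  let Q : PrimeSpectrum T := ⟨q, ‹_›⟩
  let Q' : PrimeSpectrum (T ⧸ p) := ⟨q.map (Ideal.Quotient.mk p), ‹_›⟩
  let e := surjectiveEmbedding (Ideal.Quotient.mk p) Ideal.Quotient.mk_surjective
  have hQ' : e Q' = Q := PrimeSpectrum.ext (by
    show (q.map (Ideal.Quotient.mk p)).comap _ = q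
    rw [Ideal.comap_map_of_surjective _ Ideal.Quotient.mk_surjective, ← RingHom.ker_eq_comap_bot,
      Ideal.mk_ker, sup_eq_left.mpr hpq])
  have hb : e ⊥ = P := PrimeSpectrum.ext (by
    show (⊥ : Ideal (T ⧸ p)).comap (Ideal.Quotient.mk p) = p
    rw [← RingHom.ker_eq_comap_bot, Ideal.mk_ker])
  suffices h : Order.height Q' + Order.height P = Order.height Q by
    rw [← Q'.height_eq_orderHeight, ← P.height_eq_orderHeight, ← Q.height_eq_orderHeight] at h
    exact h
  obtain ⟨n, hn, hn'⟩ := height_le_coe_of_isCat (isCatenary_of_surjective _ Ideal.Quotient.mk_surjective hT) Q'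
  obtain ⟨s, h1, h2, hs, -⟩ := exists_sat (isCatenary_of_surjective _ Ideal.Quotient.mk_surjective hT) (bot_le : ⊥ ≤ Q')
  have hs' : Sat (s.map e e.strictMono) := fun i =>
    ⟨(s.map e e.strictMono).step i, fun a ha1 ha2 => by
      obtain ⟨b, rfl⟩ : a ∈ Set.range e := by
        rw [range_surjectiveEmbedding, Ideal.mk_ker]
        have : P ≤ a := hb.ge.trans ((e.monotone bot_le).trans ha1.le)
        exact this
      exact (hs i).2 (e.lt_iff_lt.mp ha1) (e.lt_iff_lt.mp ha2)⟩
  have := height_add_length hT hs'
  rw [LTSeries.head_map, LTSeries.last_map, h1, h2, hQ', hb, LTSeries.map_length] at this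
  rw [this, hn, add_comm, hn' s h1 h2 hs]

end Groth.Agent.Catenary

namespace Groth.Agent.Catenary

/-- Heights add along quotients below a prime with catenary local ring. -/
theorem height_quotient_add_atPrime {T : Type u} [CommRing T] [IsDomain T] (p q : Ideal T) [p.IsPrime] [q.IsPrime]
    (hpq : p ≤ q) (hT : CAlg.IsCatenary (Localization.AtPrime q)) :
    (q.map (Ideal.Quotient.mk p)).height + p.height = q.height := by
  haveI : (q.map (Ideal.Quotient.mk p)).IsPrime :=
    Ideal.map_isPrime_of_surjective Ideal.Quotient.mk_surjective (by rwa [Ideal.mk_ker])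
  let e := surjectiveEmbedding (Ideal.Quotient.mk p) Ideal.Quotient.mk_surjective
  let Q' : PrimeSpectrum (T ⧸ p) := ⟨q.map (Ideal.Quotient.mk p), ‹_›⟩
  have hb : e ⊥ = (⟨p, ‹_›⟩ : PrimeSpectrum T) := PrimeSpectrum.ext (by
    show (⊥ : Ideal (T ⧸ p)).comap (Ideal.Quotient.mk p) = p
    rw [← RingHom.ker_eq_comap_bot, Ideal.mk_ker])
  have hQ : e Q' = (⟨q, ‹_›⟩ : PrimeSpectrum T) := PrimeSpectrum.ext (by
    show (q.map (Ideal.Quotient.mk p)).comap _ = q
    rw [Ideal.comap_map_of_surjective _ Ideal.Quotient.mk_surjective, ← RingHom.ker_eq_comap_bot,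
      Ideal.mk_ker, sup_eq_left.mpr hpq])
  have hset : Set.range (localizationEmbedding q.primeCompl (Localization.AtPrime q)) = Set.Iic (e Q') := by
    rw [range_localizationEmbedding, hQ]
    ext x
    exact ⟨fun h z hz => by_contra fun hzq => Set.disjoint_left.mp h hzq hz,
      fun h => Set.disjoint_left.mpr fun z hz hzx => hz (h hzx)⟩
  have h := height_embedding e (fun a ha => by
    rw [range_surjectiveEmbedding, Ideal.mk_ker]
    exact (show (⟨p, ‹_›⟩ : PrimeSpectrum T) ≤ a from hb.ge.trans ha)) Q'
    (hset ▸ isCat_range (localizationEmbedding q.primeCompl (Localization.AtPrime q)) hT)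
  rw [hb, hQ, ← PrimeSpectrum.height_eq_orderHeight, ← PrimeSpectrum.height_eq_orderHeight,
    ← PrimeSpectrum.height_eq_orderHeight] at h
  exact h.symm

end Groth.Agent.Catenary
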