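import Groth.Agent.Catenary.Formula
import Groth.Agent.DimFormula.Open
import Groth.Agent.EquidimPt.Component
import Groth.Agent.FibreDim.Basic

/-!
# Fibre chains through a point
-/

set_option autoImplicit false
set_option linter.style.haveILetI false
universe u

open CategoryTheory AlgebraicGeometry Topology TopologicalSpace
open Groth.Agent Groth.Agent.Unibranch Groth.Agent.EquidimPt Groth.Agent.DimFormula

namespace Groth.Agent.Catenary

variable {X Y : Scheme.{u}} [IsLocallyNoetherian Y] (f : X ⟶ Y) [LocallyOfFiniteType f]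

/-- Chevalley: below the closure of `ζ` the fibre through `x` has a point with closure of the generic dimension. -/
theorem exists_fibre_point {ζ x : X} (hζx : ζ ⤳ x) {e : ℕ} (he : HasChain f (closure {ζ}) (f ζ) e) :
    ∃ z, ζ ⤳ z ∧ z ⤳ x ∧ f z = f x ∧ HasChain f (closure {z}) (f x) e := by
  let ι := (Scheme.IdealSheafData.vanishingIdeal (Closeds.closure ({ζ} : Set X))).subschemeι
  have hr : Set.range ι = closure {ζ} := by
    rw [Scheme.IdealSheafData.range_subschemeι, Scheme.IdealSheafData.coe_support_vanishingIdeal]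
    try rfl
  obtain ⟨w, hwx⟩ := hr.ge hζx.mem_closure
  obtain ⟨a, ha⟩ := hr.ge (subset_closure (Set.mem_singleton ζ))
  have haw : a ⤳ w := ι.isEmbedding.isInducing.specializes_iff.mp (by rw [ha, hwx]; exact hζx)
  have he' : HasChain (ι ≫ f) (closure {a}) ((ι ≫ f) a) e := by
    rw [Scheme.Hom.comp_apply, ha]
    exact (hasChain_comp ι f).mpr (by rw [ha]; exact he)
  obtain ⟨m, hmw, hgm, -, hm⟩ := exists_max_hasChain (ι ≫ f) w ((natCast_le_fibreDimAt_iff (ι ≫ f) w).mpr
    fun U hU => (he'.of_specializes haw hU).mono Set.inter_subset_left)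
  have hgw : (ι ≫ f) w = f x := by rw [Scheme.Hom.comp_apply, hwx]
  refine ⟨ι m, specializes_iff_mem_closure.mpr (hr.le ⟨m, rfl⟩), hwx ▸ hmw.map ι.continuous, ?_, ?_⟩
  · rw [← Scheme.Hom.comp_apply, hgm, hgw]
  · rw [hgw] at hm
    exact (hasChain_comp ι f).mp hm

/-- A chain in the fibre adds to the dimension of the local ring. -/
theorem dim_add_le_of_hasGen {X : Scheme.{u}} [IsLocallyNoetherian X] {z x : X} {b : ℕ} (hb : HasGen z x b) :
    ringKrullDim (X.presheaf.stalk z) + (b : WithBot ℕ∞) ≤ ringKrullDim (X.presheaf.stalk x) := by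
  obtain ⟨A, hA, hAle, -⟩ := exists_ringKrullDim_stalk x
  obtain ⟨a, ha, -, ζ, -, -, hge⟩ := exists_ringKrullDim_stalk z
  obtain ⟨n, hn, g, hg, -, hgl⟩ := hge.trans hb
  have := hAle n g hg hgl
  rw [hA, ha]
  exact_mod_cast (show a + b ≤ A by omega)

/-- The dimension formula at `x` holds iff it holds at a generic point of a top dimensional fibre
component through `x`. -/
theorem dim_formula_iff (x : X) (hcat : CAlg.IsUniversallyCatenary (Y.presheaf.stalk (f x))) :
    ringKrullDim (X.presheaf.stalk x) =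
        ringKrullDim (Y.presheaf.stalk (f x)) + ringKrullDim ((f.fiber (f x)).presheaf.stalk (f.asFiber x)) ↔
      ∃ z : X, f z = f x ∧ z ⤳ x ∧ (∀ z' : X, f z' = f x → z' ⤳ z → z' = z) ∧
        FlatMor.fibreDimAt f z = FlatMor.fibreDimAt f x ∧
        ringKrullDim (X.presheaf.stalk z) = ringKrullDim (Y.presheaf.stalk (f z)) := by
  haveI : IsLocallyNoetherian X := LocallyOfFiniteType.isLocallyNoetherian f
  obtain ⟨b, δ, hb, hD, hδle, hδge, hball, -⟩ := exists_fibre_dims f x
  obtain ⟨C, hC, hCle, -⟩ := exists_ringKrullDim_stalk (f x)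
  obtain ⟨A, hA, hAle, ζ, hζ, hζx, hAge⟩ := exists_ringKrullDim_stalk x
  have hfz : ∀ z : X, (∀ z' : X, f z' = f x → z' ⤳ z → z' = z) → f z = f x →
      ∃ δz : ℕ, ringKrullDim ((f.fiber (f z)).presheaf.stalk (f.asFiber z)) = 0 ∧
        FlatMor.fibreDimAt f z = (δz : WithBot ℕ∞) ∧ ChainsLE f (closure {z}) (f z) δz ∧
        HasChain f (closure {z}) (f z) δz := fun z hz hfz => by
    obtain ⟨bz, δz, hbz, hDz, hle, hge, -, m, hfm, hmz, -, hmb, -⟩ := exists_fibre_dims f z
    obtain rfl := hz m (hfm.trans hfz) hmz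
    obtain rfl : bz = 0 := Nat.le_zero.mp ((genLE_self m).le_of_hasGen hmb)
    exact ⟨δz, by simpa using hbz, by simpa using hDz, hle, hge⟩
  constructor
  · intro h
    rw [hA, hC, hb] at h
    have hAC : A = C + b := by exact_mod_cast h
    obtain ⟨c', hc'le, hc'ge⟩ := exists_genLE_hasGen (hζx.map f.continuous)
    obtain ⟨e, hele, hege, -⟩ := exists_dim_closure_eq f ζ
    have h1 := dimension_inequality f hζx hAge hc'le hδge hele
    have hc'C : c' ≤ C := by
      obtain ⟨g, hg, -, hgl⟩ := hc'ge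
      exact hCle c' g hg hgl
    obtain ⟨z, hζz, hzx, hfzx, hz⟩ := exists_fibre_point f hζx hege
    have hz' : HasChain f (closure {z}) (f x) (b + δ) := hz.anti (by omega)
    have hmax : ∀ z' : X, f z' = f x → z' ⤳ z → z' = z := fun w hw hwz => by
      by_contra hne
      obtain ⟨n, hn, hn'⟩ := exists_genLE_hasGen (hwz.trans hzx)
      obtain ⟨U, hxU, hU⟩ := (fibreDimAt_le_iff f x).mp hD.le
      obtain ⟨g, hg, hg'⟩ := hz'
      have hw' : HasChain f (closure {w}) (f w) (b + δ + 1) := by
        refine ⟨Fin.cons w g, fun i => ?_, fun i => ?_⟩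
        · refine Fin.cases ?_ (fun j => ?_) i
          · exact ⟨by rw [Fin.cons_zero]; exact subset_closure rfl, by rw [Fin.cons_zero]⟩
          · rw [Fin.cons_succ]
            exact ⟨specializes_iff_mem_closure.mp (hwz.trans (specializes_iff_mem_closure.mpr (hg j).1)),
              (hg j).2.trans hw.symm⟩
        · refine Fin.cases ?_ (fun j => ?_) i
          · simp only [Fin.castSucc_zero, Fin.cons_zero, Fin.cons_succ]
            refine ⟨hwz.trans (specializes_iff_mem_closure.mpr (hg 0).1), fun e0 => hne ?_⟩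
            exact (hwz.antisymm ((specializes_iff_mem_closure.mpr (hg 0).1).trans (specializes_of_eq e0.symm))).eq
          · simp only [Fin.castSucc_succ, Fin.cons_succ]
            exact hg' j
      have := hw'.le (chainsLE_of_specializes f (hwz.trans hzx) hxU (hU.mono Set.inter_subset_left))
      omega
    obtain ⟨δz, -, hDz, hzle, hzge⟩ := hfz z hmax hfzx
    rw [hfzx] at hzle hzge
    have hδz : δz = b + δ := by
      refine le_antisymm ?_ (hz'.le hzle)
      obtain ⟨U, hxU, hU⟩ := (fibreDimAt_le_iff f x).mp hD.le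
      exact (hfzx.symm ▸ hzge : HasChain f (closure {z}) (f z) δz).le
        (chainsLE_of_specializes f hzx hxU (hU.mono Set.inter_subset_left))
    obtain ⟨az, haz, hazle, -⟩ := exists_ringKrullDim_stalk z
    obtain ⟨k, hkle, hkge⟩ := exists_genLE_hasGen hζz
    obtain ⟨cz, -, hczge⟩ := exists_genLE_hasGen (hζz.map f.continuous)
    have h2 : c' + e ≤ k + δz := dimension_formula f hζz (hfzx.symm ▸ hcat) hkle
      (hfzx.symm ▸ hc'ge) (hfzx.symm ▸ hzle) hege
    have h3 : k ≤ az := by
      obtain ⟨g, hg, -, hgl⟩ := hkge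
      exact hazle k g hg hgl
    have h4 := FibreDim.ringKrullDim_stalk_le_add_fiber f z
    obtain ⟨-, h0, -⟩ := hfz z hmax hfzx
    rw [h0, add_zero, haz, hfzx, hC] at h4
    have h4' : az ≤ C := by exact_mod_cast h4
    refine ⟨z, hfzx, hzx, hmax, by rw [hDz, hD, hδz], ?_⟩
    rw [haz, hfzx, hC, show az = C by omega]
  · rintro ⟨z, hfzx, hzx, hmax, hzD, hzdim⟩
    obtain ⟨δz, -, hDz, hzle, hzge⟩ := hfz z hmax hfzx
    obtain ⟨k, hkle, hkge⟩ := exists_genLE_hasGen hzx
    have h1 : δz = b + δ := by exact_mod_cast hDz.symm.trans (hzD.trans hD)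
    have h2 := (hasChain_sub_of_genLE f hzge k hzx hkle).le hδle
    refine le_antisymm (FibreDim.ringKrullDim_stalk_le_add_fiber f x) (le_trans ?_ (dim_add_le_of_hasGen hkge))
    rw [hzdim, hfzx, hC, hb]
    exact_mod_cast (show C + b ≤ C + k by omega)

end Groth.Agent.Catenary
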