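import Groth.Agent.CMFlat.Scheme
import Groth.Agent.CMFlat.Localization
import Groth.Agent.SerreReg.CM

/-!
# Normal local rings: depth at least two, Cohen–Macaulay in dimension at most two
-/

set_option autoImplicit false
set_option linter.style.haveILetI false
universe u

open IsLocalRing RingTheory.Sequence Pointwise

namespace Groth.Agent.Catenary

theorem two_le_depth_of_normal {A : Type u} [CommRing A] [IsLocalRing A] [IsNoetherianRing A] [IsDomain A]
    [IsIntegrallyClosed A] (hd : ¬ ringKrullDim A ≤ 1) : (2 : ℕ∞) ≤ LocCoh.depth A A := by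
  classical
  have hm : maximalIdeal A ≠ ⊥ := fun e => hd (by
    rw [← maximalIdeal_height_eq_ringKrullDim, e, Ideal.height_bot]
    exact_mod_cast zero_le (a := (1 : ℕ∞)))
  obtain ⟨x, hxm, hx0⟩ := Submodule.exists_mem_ne_zero_of_ne_bot hm
  obtain ⟨y, hym, hyreg⟩ : ∃ y ∈ maximalIdeal A, IsSMulRegular (QuotSMulTop x A) y := by
    by_contra! hcon
    have hfin := associatedPrimes.finite A (QuotSMulTop x A)
    have hsub : (maximalIdeal A : Set A) ⊆ ⋃ p ∈ (↑hfin.toFinset : Set (Ideal A)), (id p : Ideal A) := by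
      intro a ha
      have h0 : a ∈ ({r : A | IsSMulRegular (QuotSMulTop x A) r}ᶜ : Set A) := hcon a ha
      rw [← biUnion_associatedPrimes_eq_compl_regular] at h0
      simpa using h0
    obtain ⟨p, hp, hle⟩ := (Ideal.subset_union_prime (⊥ : Ideal A) ⊥ fun p hp _ _ =>
      IsAssociatedPrime.isPrime (hfin.mem_toFinset.1 hp)).1 hsub
    obtain ⟨hpp, ybar, hpy⟩ := isAssociatedPrime_iff.1 (hfin.mem_toFinset.1 hp)
    obtain ⟨y, rfl⟩ := Submodule.Quotient.mk_surjective _ ybar
    have hyx : ¬ x ∣ y := fun ⟨c, hc⟩ => hpp.ne_top (by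
      have h0 : (Submodule.Quotient.mk y : QuotSMulTop x A) = 0 := by
        rw [Submodule.Quotient.mk_eq_zero, hc]
        exact Submodule.smul_mem_pointwise_smul c x ⊤ trivial
      rw [hpy, Ideal.eq_top_iff_one, Submodule.mem_colon_singleton, h0, smul_zero]
      exact zero_mem _)
    have hdiv : ∀ a ∈ maximalIdeal A, ∃ c, y * a = x * c := fun a ha => by
      have h : a ∈ p := hle ha
      rw [hpy, Submodule.mem_colon_singleton, Submodule.mem_bot, ← Submodule.Quotient.mk_smul,
        Submodule.Quotient.mk_eq_zero, Submodule.mem_smul_pointwise_iff_exists] at h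
      obtain ⟨c, -, hc⟩ := h
      exact ⟨c, by rw [mul_comm]; exact hc.symm⟩
    by_cases hu : ∃ a ∈ maximalIdeal A, ∃ c, IsUnit c ∧ y * a = x * c
    · obtain ⟨a, ha, -, ⟨v, rfl⟩, hv⟩ := hu
      have hy0 : y ≠ 0 := fun e => hyx (e ▸ dvd_zero x)
      have hspan : maximalIdeal A = Ideal.span {a} := by
        refine le_antisymm (fun b hb => ?_) ((Ideal.span_singleton_le_iff_mem _).mpr ha)
        obtain ⟨c, hc⟩ := hdiv b hb
        refine Ideal.mem_span_singleton'.mpr ⟨c * ↑v⁻¹, mul_left_cancel₀ hy0 ?_⟩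
        rw [hc]
        calc y * (c * ↑v⁻¹ * a) = c * ↑v⁻¹ * (y * a) := by ring
          _ = x * c * (↑v⁻¹ * ↑v) := by rw [hv]; ring
          _ = x * c := by rw [Units.inv_mul, mul_one]
      refine hd ?_
      rw [← maximalIdeal_height_eq_ringKrullDim]
      haveI : (maximalIdeal A).IsPrincipal := ⟨⟨a, hspan⟩⟩
      exact_mod_cast Ideal.height_le_one_of_isPrincipal_of_mem_minimalPrimes (maximalIdeal A) (maximalIdeal A)
        (by rw [Ideal.minimalPrimes_eq_subsingleton_self]; rfl)
    · push Not at hu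
      let K := FractionRing A
      let z : K := algebraMap A K y / algebraMap A K x
      have hxK : algebraMap A K x ≠ 0 := by simpa using hx0
      have hint : IsIntegral A z := by
        refine isIntegral_of_smul_mem_submodule (Submodule.map (Algebra.linearMap A K) (maximalIdeal A))
          ?_ ((IsNoetherian.noetherian (maximalIdeal A)).map _) z ?_
        · intro e
          have := (Submodule.eq_bot_iff _).mp e _ (Submodule.mem_map_of_mem hxm)
          exact hxK this
        · rintro _ ⟨a, ha, rfl⟩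
          obtain ⟨c, hc⟩ := hdiv a ha
          refine ⟨c, fun hcu => hu a ha c hcu hc, ?_⟩
          show algebraMap A K c = z * algebraMap A K a
          rw [div_mul_eq_mul_div, eq_div_iff hxK, ← map_mul, ← map_mul, hc, mul_comm]
      obtain ⟨w, hw⟩ := IsIntegrallyClosed.isIntegral_iff.mp hint
      refine hyx ⟨w, IsFractionRing.injective A K ?_⟩
      rw [map_mul, hw, mul_div_cancel₀ _ hxK]
  have hw : IsWeaklyRegular A [x, y] :=
    (isWeaklyRegular_cons_iff A x [y]).mpr ⟨fun a b h => mul_left_cancel₀ hx0 h,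
      (isWeaklyRegular_cons_iff _ y []).mpr ⟨hyreg, IsWeaklyRegular.nil _ _⟩⟩
  exact CMFlat.le_depth_of_isWeaklyRegular hw (fun r hr => by
    rcases List.mem_cons.mp hr with rfl | hr
    · exact hxm
    · rcases List.mem_cons.mp hr with rfl | hr
      · exact hym
      · simp at hr)

theorem isCohenMacaulay_of_normal_dim_le_two {A : Type u} [CommRing A] [IsLocalRing A] [IsNoetherianRing A] [IsDomain A]
    [IsIntegrallyClosed A] (hd : ringKrullDim A ≤ 2) : LocCoh.IsCohenMacaulayLocalRing A := by
  obtain ⟨n, hn⟩ := SerreReg.exists_dim_nat A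
  refine ⟨?_⟩
  rw [Module.supportDim_self_eq_ringKrullDim, hn, ← WithBot.coe_natCast, WithBot.coe_inj]
  refine le_antisymm ?_ (CMFlat.depth_le_of_dim hn)
  have hn2 : n ≤ 2 := by rw [hn] at hd; exact_mod_cast hd
  rcases n with _ | _ | k
  · exact zero_le
  · obtain ⟨x, hxm, hx0⟩ := Submodule.exists_mem_ne_zero_of_ne_bot (p := maximalIdeal A) fun e => by
      rw [← maximalIdeal_height_eq_ringKrullDim, e, Ideal.height_bot] at hn
      norm_num at hn
    exact CMFlat.le_depth_of_isWeaklyRegular (rs := [x])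
      ((isWeaklyRegular_cons_iff A x []).mpr ⟨fun a b h => mul_left_cancel₀ hx0 h, IsWeaklyRegular.nil _ _⟩)
      (fun r hr => by rw [List.mem_singleton] at hr; exact hr ▸ hxm)
  · obtain rfl : k = 0 := by omega
    exact two_le_depth_of_normal (by rw [hn]; norm_num)

end Groth.Agent.Catenary
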