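import Groth.Agent.DimFormula.Ineq
import Groth.Agent.Catenary.Ring
import Mathlib.RingTheory.RingHom.Flat

/-!
# The dimension formula over universally catenary rings
-/

set_option autoImplicit false
set_option linter.style.haveILetI false
universe u

open Groth.Agent

namespace Groth.Agent.Catenary

/-- **The dimension formula.** -/
theorem exists_dimension_formula (R : Type u) [CommRing R] [IsDomain R] (hR : CAlg.IsUniversallyCatenary R)
    (S : Type u) [CommRing S] [IsDomain S] [Algebra R S] [FaithfulSMul R S] [Algebra.FiniteType R S]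
    (p : Ideal R) [p.IsPrime] (q : Ideal S) [q.IsPrime] [q.LiesOver p] :
    ∃ a b c d : ℕ, q.height = a ∧ Algebra.trdeg (R ⧸ p) (S ⧸ q) = b ∧ p.height = c ∧
      Algebra.trdeg R S = d ∧ a + b = c + d := by
  haveI := hR.1
  haveI : IsNoetherianRing S := Algebra.FiniteType.isNoetherianRing R S
  obtain ⟨n, φ, hφ⟩ := Algebra.FiniteType.iff_quotient_mvPolynomial''.mp ‹Algebra.FiniteType R S›
  obtain ⟨h₀, d, hh₀, hd, hsum₀⟩ := DimFormula.exists_height_ker φ hφ
  let Q : Ideal (MvPolynomial (Fin n) R) := q.comap φ.toRingHom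
  haveI : Q.LiesOver p := ⟨by
    rw [Ideal.LiesOver.over (p := p) (P := q)]
    ext r
    show _ ↔ φ (algebraMap R _ r) ∈ q
    rw [φ.commutes]
    rfl⟩
  -- the residual prime
  let Rp := R ⧸ p
  let ψ : MvPolynomial (Fin n) Rp →ₐ[Rp] S ⧸ q :=
    MvPolynomial.aeval fun i => Ideal.Quotient.mk q (φ (MvPolynomial.X i))
  let π : MvPolynomial (Fin n) R →+* MvPolynomial (Fin n) Rp := MvPolynomial.map (Ideal.Quotient.mk p)
  have hπψ : ∀ b, ψ (π b) = Ideal.Quotient.mk q (φ b) := fun b => by
    refine RingHom.congr_fun (f := ψ.toRingHom.comp π) (g := (Ideal.Quotient.mk q).comp φ.toRingHom)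
      (MvPolynomial.ringHom_ext (fun r => ?_) fun i => ?_) b
    · show ψ (π (MvPolynomial.C r)) = Ideal.Quotient.mk q (φ (algebraMap R _ r))
      rw [MvPolynomial.map_C, MvPolynomial.aeval_C, φ.commutes]
      rfl
    · show ψ (π (MvPolynomial.X i)) = _
      rw [MvPolynomial.map_X, MvPolynomial.aeval_X]
      rfl
  have hψ : Function.Surjective ψ := fun z => by
    obtain ⟨z, rfl⟩ := Ideal.Quotient.mk_surjective z
    obtain ⟨b, rfl⟩ := hφ z
    exact ⟨π b, hπψ b⟩
  haveI : FaithfulSMul Rp (S ⧸ q) := (faithfulSMul_iff_algebraMap_injective _ _).mpr <| by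
    rw [injective_iff_map_eq_zero]
    intro a ha
    obtain ⟨r, rfl⟩ := Ideal.Quotient.mk_surjective a
    have h1 : algebraMap R S r ∈ q := Ideal.Quotient.eq_zero_iff_mem.mp ha
    rw [Ideal.Quotient.eq_zero_iff_mem, Ideal.LiesOver.over (p := p) (P := q)]
    exact h1
  obtain ⟨h₁, b, hh₁, hb, hsum₁⟩ := DimFormula.exists_height_ker ψ hψ
  -- identify the residual prime
  let I : Ideal (MvPolynomial (Fin n) R) := p.map (algebraMap R (MvPolynomial (Fin n) R))
  have hker : RingHom.ker π = I := by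
    rw [MvPolynomial.ker_map, Ideal.mk_ker]
    rfl
  have hπs : Function.Surjective π := MvPolynomial.map_surjective _ Ideal.Quotient.mk_surjective
  let e : (MvPolynomial (Fin n) R ⧸ I) ≃+* MvPolynomial (Fin n) Rp :=
    (Ideal.quotEquivOfEq hker.symm).trans (RingHom.quotientKerEquivOfSurjective hπs)
  have he : (Q.map (Ideal.Quotient.mk I)).map e = RingHom.ker ψ.toRingHom := by
    rw [show (Q.map (Ideal.Quotient.mk I)).map e = Q.map π from by
      rw [← Ideal.map_coe e, Ideal.map_map]
      congr 1]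
    refine le_antisymm (Ideal.map_le_iff_le_comap.mpr fun b hb => ?_) fun z hz => ?_
    · show ψ (π b) = 0
      rw [hπψ, Ideal.Quotient.eq_zero_iff_mem]
      exact hb
    · obtain ⟨b, rfl⟩ := hπs z
      refine Ideal.mem_map_of_mem _ ?_
      have : ψ (π b) = 0 := hz
      rw [hπψ, Ideal.Quotient.eq_zero_iff_mem] at this
      exact this
  have h1 : Q.height = p.height + (h₁ : ℕ∞) := by
    rw [← hh₁, ← he, e.height_map]
    exact Ideal.height_eq_height_add_of_liesOver_of_hasGoingDown p Q
  -- going up from the kernel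
  haveI : (RingHom.ker φ.toRingHom).IsPrime := RingHom.ker_isPrime _
  have h2 : q.height + (h₀ : ℕ∞) = Q.height := by
    rw [← hh₀, ← height_quotient_add (hR.2 _ inferInstance) (RingHom.ker φ.toRingHom) Q (Ideal.comap_mono bot_le)]
    congr 1
    let E := RingHom.quotientKerEquivOfSurjective (f := φ.toRingHom) hφ
    rw [← E.height_map, ← Ideal.map_coe E, Ideal.map_map]
    exact congrArg Ideal.height (Ideal.map_comap_of_surjective φ.toRingHom hφ q).symm
  obtain ⟨c, hc⟩ := ENat.ne_top_iff_exists.mp (p.height_ne_top_of_isPrime)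
  obtain ⟨a, ha⟩ := ENat.ne_top_iff_exists.mp (q.height_ne_top_of_isPrime)
  refine ⟨a, b, c, d, ha.symm, hb, hc.symm, hd, ?_⟩
  rw [← ha] at h2
  rw [← hc] at h1
  have h3 : a + h₀ = c + h₁ := by exact_mod_cast h2.trans h1
  omega

end Groth.Agent.Catenary
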