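import Groth.Agent.Catenary.Formula
import Groth.Agent.DimFormula.Equidim
import Groth.Agent.DimFormula.ResTrdeg

/-!
# The dimension formula for equidimensional morphisms
-/

set_option autoImplicit false
set_option linter.style.haveILetI false
universe u

open CategoryTheory AlgebraicGeometry Topology TopologicalSpace
open Groth.Agent Groth.Agent.Unibranch Groth.Agent.EquidimPt Groth.Agent.DimFormula

namespace Groth.Agent.Catenary

variable {X Y : Scheme.{u}} [IsLocallyNoetherian Y] (f : X ⟶ Y) [LocallyOfFiniteType f] (x : X)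

theorem component_formula (h : EGA43.IsEquidimAt f x) (hcat : CAlg.IsUniversallyCatenary (Y.presheaf.stalk (f x)))
    {δ e : ℕ} (he : FlatMor.fibreDimAt f x = (e : WithBot ℕ∞))
    (hδle : ChainsLE f (closure {x}) (f x) δ) (hδge : HasChain f (closure {x}) (f x) δ)
    {ζ : X} (hζ : IsMaxPt ζ) (hζx : ζ ⤳ x) :
    IsMaxPt (f ζ) ∧ ∃ a c : ℕ, GenLE ζ x a ∧ HasGen ζ x a ∧ GenLE (f ζ) (f x) c ∧ HasGen (f ζ) (f x) c ∧
      a + δ = c + e := by
  haveI : IsLocallyNoetherian X := LocallyOfFiniteType.isLocallyNoetherian f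
  obtain ⟨e', U, hxU, he', hmax, hge, hle, -⟩ := exists_fibreDimAt_data f x h
  obtain rfl : e' = e := by exact_mod_cast he'.symm.trans he
  have hζU := hζx.mem_open U.2 hxU
  obtain ⟨a, ha, ha'⟩ := exists_genLE_hasGen hζx
  obtain ⟨c, hc, hc'⟩ := exists_genLE_hasGen (hζx.map f.continuous)
  exact ⟨hmax ζ hζU hζ, a, c, ha, ha', hc, hc', le_antisymm
    (dimension_inequality f hζx ha' hc hδge
      (chainsLE_of_specializes f hζx hxU ((hle _).mono Set.inter_subset_left)))
    (dimension_formula f hζx hcat ha hc' hδle (hge ζ hζU hζ))⟩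

/-- Over an equidimensional universally catenary local ring: the dimension formula and equidimensionality. -/
theorem dim_of_isEquidimAt (h : EGA43.IsEquidimAt f x) (hcat : CAlg.IsUniversallyCatenary (Y.presheaf.stalk (f x)))
    (hY : EGA4.IsEquidim (Y.presheaf.stalk (f x))) :
    ringKrullDim (X.presheaf.stalk x) =
        ringKrullDim (Y.presheaf.stalk (f x)) + ringKrullDim ((f.fiber (f x)).presheaf.stalk (f.asFiber x)) ∧
      EGA4.IsEquidim (X.presheaf.stalk x) := by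
  haveI : IsLocallyNoetherian X := LocallyOfFiniteType.isLocallyNoetherian f
  obtain ⟨b, δ, hb, he, hδle, hδge, -⟩ := exists_fibre_dims f x
  obtain ⟨C, hC, hCle, -⟩ := exists_ringKrullDim_stalk (f x)
  have hall : ∀ ζ, IsMaxPt ζ → ζ ⤳ x → GenLE ζ x (C + b) ∧ HasGen ζ x (C + b) := fun ζ hζ hζx => by
    obtain ⟨hfζ, a, c, ha, ha', hc, hc', heq⟩ := component_formula f x h hcat he hδle hδge hζ hζx
    have h1 : C ≤ c := hc.le_of_hasGen ((isEquidim_stalk_iff (f x) hC).mp hY (f ζ) hfζ (hζx.map f.continuous))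
    have h2 : c ≤ C := by
      obtain ⟨g, hg, -, hgl⟩ := hc'
      exact hCle c g hg hgl
    obtain rfl : a = C + b := by omega
    exact ⟨ha, ha'⟩
  have hdim : ringKrullDim (X.presheaf.stalk x) = ((C + b : ℕ) : WithBot ℕ∞) := by
    rw [ringKrullDim_stalk_eq_iff]
    refine ⟨(genChainsLE_iff x).mpr fun ζ hζ hζx => (hall ζ hζ hζx).1, ?_⟩
    obtain ⟨ζ, hζ, hζx⟩ := exists_isMaxPt_specializes x
    exact ⟨ζ, hζ, hζx, (hall ζ hζ hζx).2⟩
  exact ⟨by rw [hdim, hC, hb, Nat.cast_add],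
    (isEquidim_stalk_iff x hdim).mpr fun ζ hζ hζx => (hall ζ hζ hζx).2⟩

/-- The dimension formula along each component. -/
theorem dim_component (h : EGA43.IsEquidimAt f x) (hcat : CAlg.IsUniversallyCatenary (Y.presheaf.stalk (f x)))
    (p : Ideal (X.presheaf.stalk x)) (hp : p ∈ minimalPrimes (X.presheaf.stalk x)) :
    ringKrullDim (X.presheaf.stalk x ⧸ p) +
        (Cardinal.toNat (@Algebra.trdeg (Y.residueField (f x)) (X.residueField x) _ _
          (f.residueFieldMap x).hom.toAlgebra) : WithBot ℕ∞) =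
      ringKrullDim (Y.presheaf.stalk (f x) ⧸ p.comap (f.stalkMap x).hom) + FlatMor.fibreDimAt f x := by
  haveI : IsLocallyNoetherian X := LocallyOfFiniteType.isLocallyNoetherian f
  haveI := hp.1.1
  obtain ⟨δ, hδ, hδle, hδge⟩ := exists_trdeg_eq f x
  obtain ⟨b, δ', -, he, -⟩ := exists_fibre_dims f x
  let ζ := X.fromSpecStalk x ⟨p, hp.1.1⟩
  have hζ : IsMaxPt ζ := (isMaxPt_fromSpecStalk x ⟨p, hp.1.1⟩).mpr hp
  have hζx : ζ ⤳ x := by
    have : ζ ∈ Set.range (X.fromSpecStalk x) := ⟨_, rfl⟩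
    rwa [Scheme.range_fromSpecStalk] at this
  obtain ⟨-, a, c, ha, ha', hc, hc', heq⟩ := component_formula f x h hcat he hδle hδge hζ hζx
  have hquot : ∀ {Z : Scheme.{u}} [IsLocallyNoetherian Z] (z : Z) (q : PrimeSpectrum (Z.presheaf.stalk z)) (k : ℕ),
      GenLE (Z.fromSpecStalk z q) z k → HasGen (Z.fromSpecStalk z q) z k →
      ringKrullDim (Z.presheaf.stalk z ⧸ q.asIdeal) = (k : WithBot ℕ∞) := by
    intro Z _ z q k hle hge
    haveI : Nontrivial (Z.presheaf.stalk z ⧸ q.asIdeal) := Ideal.Quotient.nontrivial_iff.mpr q.2.ne_top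
    haveI : IsLocalRing (Z.presheaf.stalk z ⧸ q.asIdeal) := IsLocalRing.of_surjective' _ Ideal.Quotient.mk_surjective
    obtain ⟨n, hn⟩ := SerreReg.exists_dim_nat (Z.presheaf.stalk z ⧸ q.asIdeal)
    refine le_antisymm ?_ ((natCast_le_ringKrullDim_quotient_iff z q).mpr ⟨k, le_rfl, hge⟩)
    obtain ⟨m, hm, hm'⟩ := (natCast_le_ringKrullDim_quotient_iff z q (k := n)).mp hn.ge
    rw [hn]
    exact_mod_cast hm.trans (hle.le_of_hasGen hm')
  have hcomap : Y.fromSpecStalk (f x) (PrimeSpectrum.comap (f.stalkMap x).hom ⟨p, hp.1.1⟩) = f ζ := by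
    show (Spec.map (f.stalkMap x) ≫ Y.fromSpecStalk (f x)) ⟨p, hp.1.1⟩ = _
    rw [Scheme.SpecMap_stalkMap_fromSpecStalk, Scheme.Hom.comp_apply]
  rw [hδ, Cardinal.toNat_natCast, hquot x ⟨p, hp.1.1⟩ a ha ha', he,
    show p.comap (f.stalkMap x).hom = (PrimeSpectrum.comap (f.stalkMap x).hom ⟨p, hp.1.1⟩).asIdeal from rfl,
    hquot (f x) _ c (by rw [hcomap]; exact hc) (by rw [hcomap]; exact hc')]
  exact_mod_cast heq

end Groth.Agent.Catenary
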