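import Groth.Agent.Catenary.Flat
import Groth.Agent.Catenary.Formula
import Groth.Agent.DimFormula.Equidim
import Groth.Agent.DimFormula.ResTrdeg
import Groth.Agent.Unibranch.FibreDims
import Mathlib.AlgebraicGeometry.Morphisms.Finite

/-!
# Dimensions on catenary Jacobson schemes
-/

set_option autoImplicit false
set_option linter.style.haveILetI false
universe u

open CategoryTheory AlgebraicGeometry Topology TopologicalSpace
open Groth.Agent Groth.Agent.Unibranch Groth.Agent.EquidimPt Groth.Agent.DimFormula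

namespace Groth.Agent.Catenary

variable {S : Scheme.{u}}

theorem ringKrullDim_quotient_eq [IsLocallyNoetherian S] (s : S) (P : PrimeSpectrum (S.presheaf.stalk s)) (k : ℕ)
    (hle : GenLE (S.fromSpecStalk s P) s k) (hge : HasGen (S.fromSpecStalk s P) s k) :
    ringKrullDim (S.presheaf.stalk s ⧸ P.asIdeal) = (k : WithBot ℕ∞) := by
  refine le_antisymm (iSup_le fun l => ?_) ((natCast_le_ringKrullDim_quotient_iff s P).mpr ⟨k, le_rfl, hge⟩)
  obtain ⟨n, hn, hn'⟩ := (natCast_le_ringKrullDim_quotient_iff s P (k := l.length)).mp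
    (Order.LTSeries.length_le_krullDim l)
  exact_mod_cast hn.trans (hle.le_of_hasGen hn')

/-- Chain lengths add along specialisations in catenary local rings. -/
theorem genLE_trans [IsLocallyNoetherian S] {θ σ s : S} (h1 : θ ⤳ σ) (h2 : σ ⤳ s)
    (hcat : CAlg.IsCatenary (S.presheaf.stalk s)) {a b c : ℕ} (ha : GenLE θ σ a) (hb : GenLE σ s b)
    (hc : HasGen θ s c) : c ≤ a + b := by
  obtain ⟨P, rfl⟩ := exists_fromSpecStalk_eq (h1.trans h2)
  obtain ⟨Q, rfl⟩ := exists_fromSpecStalk_eq h2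
  have hsp := fromSpecStalk_le_iff (X := S) s
  have hPQ : P.asIdeal ≤ Q.asIdeal := (hsp P Q).mpr h1
  let π := Ideal.Quotient.mk P.asIdeal
  haveI : Nontrivial (S.presheaf.stalk s ⧸ P.asIdeal) := Ideal.Quotient.nontrivial_iff.mpr P.2.ne_top
  haveI : IsLocalRing (S.presheaf.stalk s ⧸ P.asIdeal) := IsLocalRing.of_surjective' _ Ideal.Quotient.mk_surjective
  haveI hQ' : (Q.asIdeal.map π).IsPrime :=
    Ideal.map_isPrime_of_surjective Ideal.Quotient.mk_surjective (by rwa [Ideal.mk_ker])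
  have h := dim_domain_add (isCatenary_of_surjective π Ideal.Quotient.mk_surjective hcat) (Q.asIdeal.map π)
  rw [ringKrullDim_eq_of_ringEquiv (DoubleQuot.quotQuotEquivQuotOfLE hPQ)] at h
  have e1 : (c : WithBot ℕ∞) ≤ ringKrullDim (S.presheaf.stalk s ⧸ P.asIdeal) :=
    (natCast_le_ringKrullDim_quotient_iff s P).mpr ⟨c, le_rfl, hc⟩
  have e2 : ringKrullDim (S.presheaf.stalk s ⧸ Q.asIdeal) ≤ (b : WithBot ℕ∞) := by
    refine iSup_le fun l => ?_
    obtain ⟨n, hn, hn'⟩ := (natCast_le_ringKrullDim_quotient_iff s Q (k := l.length)).mp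
      (Order.LTSeries.length_le_krullDim l)
    exact_mod_cast hn.trans (hb.le_of_hasGen hn')
  have e3 : (Q.asIdeal.map π).height ≤ (a : ℕ∞) := by
    rw [(⟨Q.asIdeal.map π, hQ'⟩ : PrimeSpectrum (S.presheaf.stalk s ⧸ P.asIdeal)).height_eq_orderHeight]
    refine Order.height_le fun l hl => ?_
    let l' := l.map _ (RingHom.strictMono_comap_of_surjective (f := π) Ideal.Quotient.mk_surjective)
    have hhead : P ≤ l'.head := fun r hr => by
      rw [LTSeries.head_map, PrimeSpectrum.comap_asIdeal, Ideal.mem_comap, Ideal.Quotient.eq_zero_iff_mem.mpr hr]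
      exact Ideal.zero_mem _
    have hlast : l'.last = Q := PrimeSpectrum.ext (by
      rw [LTSeries.last_map, hl]
      show (Q.asIdeal.map π).comap π = Q.asIdeal
      rw [Ideal.comap_map_of_surjective _ Ideal.Quotient.mk_surjective, ← RingHom.ker_eq_comap_bot,
        Ideal.mk_ker, sup_eq_left.mpr hPQ])
    exact_mod_cast ha l'.length (fun i => S.fromSpecStalk s (l' i))
      (fun i => ⟨(hsp _ _).mp (l'.step i).le, fun e =>
        (show l' i.castSucc < l' i.succ from l'.step i).ne ((S.fromSpecStalk s).isEmbedding.injective e)⟩)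
      ((hsp _ _).mp hhead) (congrArg (S.fromSpecStalk s) hlast)
  have := e1.trans (h.ge.trans (add_le_add e2 (WithBot.coe_le_coe.mpr e3)))
  have : c ≤ b + a := by exact_mod_cast this
  omega

/-- All closed points below a point are at the same distance. -/
def ClosedDim (S : Scheme.{u}) : Prop :=
  ∀ ζ : S, ∃ D : ℕ, ∀ s : S, IsClosed ({s} : Set S) → ζ ⤳ s → GenLE ζ s D ∧ HasGen ζ s D

theorem exists_closedPt [JacobsonSpace S] (ζ : S) : ∃ s : S, IsClosed ({s} : Set S) ∧ ζ ⤳ s := by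
  obtain ⟨s, hs1, hs2⟩ := nonempty_inter_closedPoints (Z := closure ({ζ} : Set S))
    ⟨ζ, subset_closure rfl⟩ isClosed_closure.isLocallyClosed
  exact ⟨s, hs2, specializes_iff_mem_closure.mpr hs1⟩

theorem dim_gens [IsLocallyNoetherian S] {θ s : S} (h : θ ⤳ s) {k : ℕ} (hle : GenLE θ s k) (hge : HasGen θ s k) :
    topologicalKrullDim ↥{t : S | t ∈ closure ({θ} : Set S) ∧ t ⤳ s} = (k : WithBot ℕ∞) := by
  obtain ⟨P, rfl⟩ := exists_fromSpecStalk_eq h
  let g : PrimeSpectrum (S.presheaf.stalk s ⧸ P.asIdeal) → S :=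
    fun q => S.fromSpecStalk s (PrimeSpectrum.comap (Ideal.Quotient.mk P.asIdeal) q)
  have hg : IsEmbedding g := (S.fromSpecStalk s).isEmbedding.comp
    (PrimeSpectrum.isClosedEmbedding_comap_of_surjective _ _ Ideal.Quotient.mk_surjective).isEmbedding
  have hr : Set.range g = {t : S | t ∈ closure ({S.fromSpecStalk s P} : Set S) ∧ t ⤳ s} := by
    ext t
    constructor
    · rintro ⟨q, rfl⟩
      refine ⟨specializes_iff_mem_closure.mp ((fromSpecStalk_le_iff s _ _).mp fun r hr => ?_), ?_⟩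
      · rw [PrimeSpectrum.comap_asIdeal, Ideal.mem_comap, Ideal.Quotient.eq_zero_iff_mem.mpr hr]
        exact Ideal.zero_mem _
      · have : g q ∈ Set.range (S.fromSpecStalk s) := ⟨_, rfl⟩
        rwa [Scheme.range_fromSpecStalk] at this
    · rintro ⟨ht1, ht2⟩
      obtain ⟨b, rfl⟩ := exists_fromSpecStalk_eq ht2
      have hPb : P ≤ b := (fromSpecStalk_le_iff s P b).mpr (specializes_iff_mem_closure.mpr ht1)
      obtain ⟨q, hq⟩ : b ∈ Set.range (PrimeSpectrum.comap (Ideal.Quotient.mk P.asIdeal)) := by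
        rw [range_comap_of_surjective _ _ Ideal.Quotient.mk_surjective, PrimeSpectrum.mem_zeroLocus, Ideal.mk_ker]
        exact hPb
      exact ⟨q, congrArg (S.fromSpecStalk s) hq⟩
  rw [← IsHomeomorph.topologicalKrullDim_eq _ (hg.toHomeomorph.trans (Homeomorph.setCongr hr)).isHomeomorph,
    PrimeSpectrum.topologicalKrullDim_eq_ringKrullDim]
  exact ringKrullDim_quotient_eq s P k hle hge

/-- Equidimensional components give constant distances to closed points. -/
theorem closedDim_of_equidim [IsLocallyNoetherian S] [JacobsonSpace S]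
    (h2 : ∀ s : S, CAlg.IsUniversallyCatenary (S.presheaf.stalk s))
    (h3 : ∀ S' ∈ irreducibleComponents (S : Type u), ∀ s ∈ S', IsClosed ({s} : Set S) →
      topologicalKrullDim (↥S' : Type u) = topologicalKrullDim ↥{t : S | t ∈ S' ∧ t ⤳ s}) : ClosedDim S := by
  intro ζ
  obtain ⟨θ, hθ, hθζ⟩ := exists_isMaxPt_specializes ζ
  obtain ⟨a, hale, hage⟩ := exists_genLE_hasGen hθζ
  obtain ⟨s₀, hs₀, hζs₀⟩ := exists_closedPt ζ
  obtain ⟨D, hDle, hDge⟩ := exists_genLE_hasGen hζs₀
  refine ⟨D, fun s hs hζs => ?_⟩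
  obtain ⟨D', hD'le, hD'ge⟩ := exists_genLE_hasGen hζs
  suffices D' = D by subst this; exact ⟨hD'le, hD'ge⟩
  have key : ∀ s, ζ ⤳ s → IsClosed ({s} : Set S) → ∀ b, GenLE ζ s b → HasGen ζ s b →
      topologicalKrullDim (↥(closure ({θ} : Set S)) : Type u) = ((a + b : ℕ) : WithBot ℕ∞) := by
    intro s hζs hs b hble hbge
    rw [h3 _ hθ.mem_irreducibleComponents s (specializes_iff_mem_closure.mp (hθζ.trans hζs)) hs]
    obtain ⟨c, hcle, hcge⟩ := exists_genLE_hasGen (hθζ.trans hζs)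
    obtain ⟨n, hn, hn'⟩ := hage.trans hbge
    have h1 := genLE_trans hθζ hζs (isCatenary_of_isUniversallyCatenary (h2 s)) hale hble hcge
    have h2 : n ≤ c := hcle.le_of_hasGen hn'
    rw [dim_gens (hθζ.trans hζs) hcle hcge, show c = a + b by omega]
  have h1 := (key s hζs hs D' hD'le hD'ge).symm.trans (key s₀ hζs₀ hs₀ D hDle hDge)
  have : a + D' = a + D := by exact_mod_cast h1
  omega

/-- The residual transcendence degree of a closed point vanishes. -/
theorem closed_chains_zero {X Y : Scheme.{u}} (f : X ⟶ Y) (x : X) (hx : IsClosed ({x} : Set X)) :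
    ChainsLE f (closure {x}) (f x) 0 := by
  intro k c hc hch
  rw [hx.closure_eq] at hc
  rcases k with _ | k
  · exact le_rfl
  · exact absurd ((hc (Fin.castSucc 0)).1.trans (hc (Fin.succ 0)).1.symm) (hch 0).2

/-- Schemes locally of finite type inherit constant distances to closed points. -/
theorem closedDim_lft {X : Scheme.{u}} [IsLocallyNoetherian S] [JacobsonSpace S] (hS : ClosedDim S)
    (h2 : ∀ s : S, CAlg.IsUniversallyCatenary (S.presheaf.stalk s)) (p : X ⟶ S) [LocallyOfFiniteType p] (ξ : X) :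
    ∃ D t : ℕ, (∀ s : S, IsClosed ({s} : Set S) → p ξ ⤳ s → GenLE (p ξ) s D ∧ HasGen (p ξ) s D) ∧
      @Algebra.trdeg (S.residueField (p ξ)) (X.residueField ξ) _ _ (p.residueFieldMap ξ).hom.toAlgebra =
        (t : Cardinal.{u}) ∧
      ∀ x : X, IsClosed ({x} : Set X) → ξ ⤳ x → GenLE ξ x (D + t) ∧ HasGen ξ x (D + t) := by
  haveI : IsLocallyNoetherian X := LocallyOfFiniteType.isLocallyNoetherian p
  obtain ⟨D, hD⟩ := hS (p ξ)
  obtain ⟨t, ht, htle, htge⟩ := exists_trdeg_eq p ξ
  refine ⟨D, t, hD, ht, fun x hx hξx => ?_⟩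
  obtain ⟨hDle, hDge⟩ := hD (p x) (p.closePoints_subset_preimage_closedPoints hx) (hξx.map p.continuous)
  obtain ⟨a, hale, hage⟩ := exists_genLE_hasGen hξx
  have h0 : HasChain p (closure {x}) (p x) 0 :=
    ⟨fun _ => x, fun _ => ⟨subset_closure rfl, rfl⟩, fun i => i.elim0⟩
  have h1 := dimension_inequality p hξx hage hDle h0 htle
  have h2 := dimension_formula p hξx (h2 (p x)) hale hDge (closed_chains_zero p x hx) htge
  obtain rfl : a = D + t := by omega
  exact ⟨hale, hage⟩

/-- The dimension of an irreducible closed subset. -/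
theorem dim_closure [JacobsonSpace S] {ζ : S} {D : ℕ}
    (hD : ∀ s : S, IsClosed ({s} : Set S) → ζ ⤳ s → GenLE ζ s D ∧ HasGen ζ s D) :
    topologicalKrullDim ↥(closure ({ζ} : Set S)) = (D : WithBot ℕ∞) := by
  haveI : QuasiSober ↥(closure ({ζ} : Set S)) :=
    isClosed_closure.isClosedEmbedding_subtypeVal.quasiSober
  refine le_antisymm (le_of_forall_natCast_le fun k hk => ?_) ?_
  · obtain ⟨c, hc⟩ := exists_chain_of_le_topologicalKrullDim hk
    obtain ⟨s, hs, hcs⟩ := exists_closedPt (c (Fin.last k)).1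
    have hζ : ∀ i, ζ ⤳ (c i).1 := fun i => specializes_iff_mem_closure.mpr (c i).2
    obtain ⟨hle, -⟩ := hD s hs ((hζ _).trans hcs)
    obtain ⟨n, hn, g, hg, hg0, hgl⟩ := HasGen.trans (a := k) (b := 0) (ζ := ζ) (m := (c (Fin.last k)).1) (x := s)
      ⟨fun i => (c i).1, fun i => ⟨subtype_specializes_iff _ _ |>.mp (hc i).1, fun e => (hc i).2 (Subtype.ext e)⟩,
        hζ 0, rfl⟩ (hasGen_zero hcs)
    have := hle n g hg hg0 hgl
    exact_mod_cast (show k ≤ D by omega)
  · obtain ⟨s, hs, hζs⟩ := exists_closedPt ζ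
    obtain ⟨-, g, hg, hg0, hgl⟩ := hD s hs hζs
    exact natCast_le_topologicalKrullDim
      (fun i => (⟨g i, specializes_iff_mem_closure.mp (hg0.trans (Unibranch.specializes_of_chain g hg i))⟩ :
        ↥(closure ({ζ} : Set S))))
      fun i => ⟨(subtype_specializes_iff _ _).mpr (hg i).1, fun e => (hg i).2 (congrArg Subtype.val e)⟩

/-- Maximal points lie in dense open subsets. -/
theorem isMaxPt_mem_of_dense [IsLocallyNoetherian S] {θ : S} (hθ : IsMaxPt θ) {U : Set S} (hU : IsOpen U)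
    (hd : Dense U) : θ ∈ U := by
  obtain ⟨O, hθO, hO⟩ := Unibranch.exists_opens_maxPt_specializes θ
  obtain ⟨z, hzO, hzU⟩ := hd.inter_open_nonempty O O.2 ⟨θ, hθO⟩
  obtain ⟨η, hη, hηz, hηθ⟩ := hO z hzO
  obtain rfl := hθ η hηθ
  exact hηz.mem_open hU hzU

theorem dim_dense_open [IsLocallyNoetherian S] [JacobsonSpace S] (hS : ClosedDim S) {U : Set S} (hU : IsOpen U)
    (hd : Dense U) : topologicalKrullDim ↥U = topologicalKrullDim S := by
  refine le_antisymm (IsInducing.subtypeVal.topologicalKrullDim_le) (le_of_forall_natCast_le fun k hk => ?_)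
  haveI : QuasiSober ↥U := hU.isOpenEmbedding_subtypeVal.quasiSober
  obtain ⟨c, hc⟩ := exists_chain_of_le_topologicalKrullDim hk
  obtain ⟨θ, hθ, hθc⟩ := exists_isMaxPt_specializes (c 0)
  obtain ⟨D, hD⟩ := hS θ
  obtain ⟨s, hs, hcs⟩ := exists_closedPt (c (Fin.last k))
  obtain ⟨hle, -⟩ := hD s hs ((hθc.trans (Unibranch.specializes_of_chain c hc _)).trans hcs)
  obtain ⟨n, hn, g, hg, hg0, hgl⟩ := HasGen.trans (a := k) (b := 0) (ζ := θ) (m := c (Fin.last k)) (x := s)
    ⟨c, hc, hθc, rfl⟩ (hasGen_zero hcs)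
  have hkD : k ≤ D := by
    have := hle n g hg hg0 hgl
    omega
  have hθU := isMaxPt_mem_of_dense hθ hU hd
  obtain ⟨s', ⟨hs'U, hs'θ⟩, hs'⟩ := nonempty_inter_closedPoints (Z := U ∩ closure ({θ} : Set S))
    ⟨θ, hθU, subset_closure rfl⟩ (hU.isLocallyClosed.inter isClosed_closure.isLocallyClosed)
  obtain ⟨-, g', hg', -, hg'l⟩ := hD s' hs' (specializes_iff_mem_closure.mpr hs'θ)
  refine le_trans ?_ (natCast_le_topologicalKrullDim
    (fun i => (⟨g' i, (hg'l ▸ specializes_last hg' i).mem_open hU hs'U⟩ : ↥U))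
    fun i => ⟨(subtype_specializes_iff _ _).mpr (hg' i).1, fun e => (hg' i).2 (congrArg Subtype.val e)⟩)
  exact_mod_cast hkD

end Groth.Agent.Catenary
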